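import Cfsg.Agent.Characters.Core
import Cfsg.Agent.OddOrderCharacters.PFDefs
import Cfsg.Agent.OddOrderCharacters.TypeSetsBasic
import Mathlib
import Cfsg.Prelude.Def_OddOrderLocal
import Cfsg.Agent.OddOrderCharacters.PF7Ind
import Cfsg.Agent.OddOrderCharacters.PF13.SumBound
import Cfsg.Agent.Blocks.OrbitSum
import Cfsg.Agent.S1494
import Cfsg.Agent.S1495
import Cfsg.Prelude.Def_OddOrderChar
import Cfsg.Agent.OddOrderCharacters.VChar
import Cfsg.Agent.OddOrderCharacters.IndRes
import Cfsg.Agent.OddOrderCharacters.ClassSum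
import Cfsg.Agent.OddOrderCharacters.InducedSum
import Cfsg.Agent.S1491
import Cfsg.Agent.S1536
import Cfsg.Agent.OddOrderCharacters.DadeBasic
import Cfsg.Agent.OddOrderCharacters.SystemRestrict
import Cfsg.Agent.OddOrderCharacters.CoherenceBasic
import Cfsg.Agent.OddOrderCharacters.UniformDegree
import Cfsg.Agent.S1501
import Cfsg.Agent.S1514
import Cfsg.Agent.S0161
import Cfsg.Agent.S0194
import Cfsg.Agent.Characters.Values
import Cfsg.Agent.OddOrderCharacters.PF7IndBasic
import Cfsg.Agent.OddOrderCharacters.InertiaAbelian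
import Cfsg.Agent.S1518
set_option linter.all false

-- part: OddOrderCharacters/PF12/Defs
section
/-!
# Peterfalvi, Section 12: definitions

`M` is a maximal subgroup of type I (`IsOfTypeI'`), `K = M_F`.  Inside `↥M` the subgroup `K` is
`fittingHall ↥M`, in `G` it is `fittingHallOf M`.  The set `S(M)` is `inducedIrrAbove (fittingHall ↥M) ⊥`.
-/

set_option autoImplicit false

open Cfsg Cfsg.Agent.OddOrderCharacters.PFDefs

namespace Cfsg.Agent.OddOrderCharacters.PF12.Defs

universe u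

section one

variable {L : Type u} [Group L]

/-- The irreducible characters of `L` whose kernel does not contain `K`. -/
def irrOver (K : Subgroup L) : Set (L → ℂ) := {ξ | IsIrrCharacter L ξ ∧ ∃ k ∈ K, ξ k ≠ ξ 1}

theorem mem_irrOver {K : Subgroup L} {ξ : L → ℂ} :
    ξ ∈ irrOver K ↔ IsIrrCharacter L ξ ∧ ∃ k ∈ K, ξ k ≠ ξ 1 := Iff.rfl

/-- The irreducible constituents of `φ`. -/
def consts [Fintype L] (φ : L → ℂ) : Set (L → ℂ) := {ξ | IsIrrCharacter L ξ ∧ classInner φ ξ ≠ 0}

theorem mem_consts [Fintype L] {φ ξ : L → ℂ} :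
    ξ ∈ consts φ ↔ IsIrrCharacter L ξ ∧ classInner φ ξ ≠ 0 := Iff.rfl

theorem finite_consts [Fintype L] (φ : L → ℂ) : (consts φ).Finite := by
  have h : Finite (IrrCharacter L) := Cfsg.Agent.Characters.Core.finite_irr
  have h2 : ({ξ : L → ℂ | IsIrrCharacter L ξ}).Finite := h
  exact h2.subset fun ξ hξ => hξ.1

/-- The irreducible constituents of `φ` as a finite set. -/
noncomputable def constsF [Fintype L] (φ : L → ℂ) : Finset (L → ℂ) := (finite_consts φ).toFinset

theorem mem_constsF [Fintype L] {φ ξ : L → ℂ} :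
    ξ ∈ constsF φ ↔ IsIrrCharacter L ξ ∧ classInner φ ξ ≠ 0 :=
  (finite_consts φ).mem_toFinset

end one

section two

variable {G : Type u} [Group G]

/-- `K#` for `K = M_F`. -/
def sharpF (M : Subgroup G) : Set G := (fittingHallOf M : Set G) \ {1}

/-- What the character theory of Section 12 needs to know about a maximal subgroup of type I. -/
structure TypeIHyp (M : Subgroup G) : Prop where
  not_typeP : ¬ IsOfTypeP M
  typeF : IsOfTypeF ↥M
  dade : DadeHypothesis (typeA0' M) M (supportR M)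
  supportR_eq : ∀ a ∈ typeA0' M, a ∉ fittingHallOf M → supportR M a = ⊥

/-- `M` is a Frobenius group with kernel `M_F`. -/
def FrobF (M : Subgroup G) : Prop :=
  ∀ x ∈ fittingHallOf M, x ≠ 1 → M ⊓ Subgroup.centralizer ({x} : Set G) ≤ fittingHallOf M

theorem mem_sharpF {M : Subgroup G} {a : G} : a ∈ sharpF M ↔ a ∈ fittingHallOf M ∧ a ≠ 1 := by
  show a ∈ ((fittingHallOf M : Set G) \ {1}) ↔ _
  simp

theorem TypeIHyp.typeA0'_eq {M : Subgroup G} (h : TypeIHyp M) :
    typeA0' M = {a | a ∈ M ∧ a ≠ 1 ∧ ∃ x ∈ fittingHallOf M, x ≠ 1 ∧ a * x = x * a} := by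
  rw [typeA0'_of_not_typeP h.not_typeP, typeA'_of_not_typeP h.not_typeP]

theorem TypeIHyp.mem_typeA0' {M : Subgroup G} (h : TypeIHyp M) {a : G} :
    a ∈ typeA0' M ↔ a ∈ M ∧ a ≠ 1 ∧ ∃ x ∈ fittingHallOf M, x ≠ 1 ∧ a * x = x * a := by
  rw [h.typeA0'_eq]; rfl

theorem TypeIHyp.sharpF_subset {M : Subgroup G} (h : TypeIHyp M) : sharpF M ⊆ typeA0' M := by
  intro a ha
  rw [mem_sharpF] at ha
  rw [h.mem_typeA0']
  exact ⟨TypeSetsBasic.fittingHallOf_le M ha.1, ha.2, a, ha.1, ha.2, rfl⟩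

theorem mem_fittingHallOf {M : Subgroup G} {x : ↥M} :
    (x : G) ∈ fittingHallOf M ↔ x ∈ fittingHall ↥M := by
  constructor
  · rintro ⟨y, hy, hyx⟩
    have : y = x := Subtype.ext hyx
    rwa [← this]
  · intro h
    exact ⟨x, h, rfl⟩

theorem fittingHallOf_subgroupOf (M : Subgroup G) :
    (fittingHallOf M).subgroupOf M = fittingHall ↥M := by
  ext x
  rw [Subgroup.mem_subgroupOf, mem_fittingHallOf]

end two

section three

variable {G : Type u} [Group G] [Fintype G]

/-- A choice of the irreducible characters `μ_ξ` of `G` with `(ξ - ξ̄)^τ = μ_ξ - μ̄_ξ`. -/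
structure MuFam (M : Subgroup G) [Fintype ↥M] (μ : (↥M → ℂ) → (G → ℂ)) : Prop where
  irr : ∀ ξ ∈ irrOver (fittingHall ↥M), IsIrrCharacter G (μ ξ)
  tau : ∀ ξ ∈ irrOver (fittingHall ↥M), tauOf M (ξ - conjFun ξ) = μ ξ - conjFun (μ ξ)

open scoped Classical in
/-- The set `R(φ)` of (12.2)(b). -/
noncomputable def muR (M : Subgroup G) [Fintype ↥M] (μ : (↥M → ℂ) → (G → ℂ)) (φ : ↥M → ℂ) :
    Finset (G → ℂ) :=
  (constsF φ).image μ ∪ (constsF φ).image (fun ξ => -conjFun (μ ξ))

open scoped Classical in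
theorem mem_muR {M : Subgroup G} [Fintype ↥M] {μ : (↥M → ℂ) → (G → ℂ)} {φ : ↥M → ℂ}
    {α : G → ℂ} : α ∈ muR M μ φ ↔ ∃ ξ ∈ constsF φ, α = μ ξ ∨ α = -conjFun (μ ξ) := by
  unfold muR
  simp only [Finset.mem_union, Finset.mem_image]
  constructor
  · rintro (⟨ξ, h, rfl⟩ | ⟨ξ, h, rfl⟩)
    · exact ⟨ξ, h, Or.inl rfl⟩
    · exact ⟨ξ, h, Or.inr rfl⟩
  · rintro ⟨ξ, h, rfl | rfl⟩
    · exact Or.inl ⟨ξ, h, rfl⟩
    · exact Or.inr ⟨ξ, h, rfl⟩

end three

end Cfsg.Agent.OddOrderCharacters.PF12.Defs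
end

-- part: OddOrderCharacters/PF12/PivotDef
section
/-!
# Peterfalvi (12.8), (12.9): the configuration `Pivot M P L p x`
-/

set_option autoImplicit false

open Cfsg

namespace Cfsg.Agent.OddOrderCharacters.PF12.PivotDef

universe u

variable {G : Type u} [Group G]

/-- Peterfalvi (12.8), (12.9): the configuration attached to a maximal subgroup `M` of type I that is not a
Frobenius group, and a prime `p` for which the complement has noncyclic Sylow subgroups. -/
structure Pivot (M P L : Subgroup G) (p : ℕ) (x : G) : Prop where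
  prime : p.Prime
  M_max : IsCoatom M
  M_eq : fittingHallOf M = sigmaCore M
  not_dvd : ¬ p ∣ Nat.card (fittingHallOf M)
  P_le : P ≤ M
  P_pgroup : IsPGroup p P
  P_syl : ¬ p ∣ P.relIndex M
  P_comm : IsMulCommutative P
  P_rank : PRankLE p 2 P
  P_rank' : ¬ PRankLE p 1 P
  L_max : IsCoatom L
  L_sigma : p ∈ sigma L
  P_le_L : P ≤ sigmaCore L
  L_not_conj : ∀ g : G, L ≠ M.map (MulAut.conj g).toMonoidHom
  x_mem : x ∈ P
  x_order : orderOf x = p
  cent_le : Subgroup.centralizer ({x} : Set G) ≤ M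
  cent_unique : ∀ N : Subgroup G, IsCoatom N → Subgroup.centralizer ({x} : Set G) ≤ N → N = M
  norm_le : Subgroup.normalizer (Subgroup.zpowers x : Set G) ≤ M
  cent_not_le : ¬ Subgroup.centralizer ({x} : Set G) ≤ L
  x_cent : ∃ g ∈ fittingHallOf M, g ∉ ⁅fittingHallOf M, fittingHallOf M⁆ ∧ x * g = g * x
  compl : IsComplIn (L ⊓ M) (fittingHallOf M) M
  index_K : 5 ≤ (⁅fittingHallOf M, fittingHallOf M⁆).relIndex (fittingHallOf M)

end Cfsg.Agent.OddOrderCharacters.PF12.PivotDef
end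

-- part: OddOrderCharacters/PF12/Final
section
/-!
# Peterfalvi (12.13)–(12.16): the final contradiction for a maximal subgroup of type I that is not Frobenius

Abstract form.  `L` is a subgroup with normal subgroup `H` such that the characters of `L` induced from the
nonprincipal irreducible characters of `H` are coherent (isometry `ν`, `ζ` irreducible of degree `e = |L:H|`),
`M` is a subgroup with normal subgroup `K`; `x ∈ H` has prime order `p` and commutes with `g ∈ K \ K'`.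
-/

set_option autoImplicit false

open scoped ComplexConjugate
open Cfsg Cfsg.Agent.Characters.Core Cfsg.Agent.OddOrderCharacters.PFDefs
  Cfsg.Agent.OddOrderCharacters.PF7IndBasic Cfsg.Agent.OddOrderCharacters.PF7Ind
  Cfsg.Agent.OddOrderCharacters.VChar

namespace Cfsg.Agent.OddOrderCharacters.PF12.Final

variable {G : Type*} [Group G] [Fintype G]

/-! ### Arithmetic -/

/-- The integer `a` of (7.8) vanishes when `H` is large. -/
theorem a_eq_zero {a : ℤ} {e h p : ℕ} (he : 0 < e) (hep : 2 * e ≤ p + 1) (hp : 3 ≤ p)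
    (hh : p ^ 2 ≤ h) (hn : (0 : ℝ) ≤ e - 1 + 2 * a - a ^ 2 * ((h - 1) / e)) : a = 0 := by
  by_contra ha
  have ha1 : (1 : ℝ) ≤ (a : ℝ) ^ 2 := by
    have : (1 : ℤ) ≤ a ^ 2 := by
      have := Int.one_le_abs ha
      nlinarith [sq_abs a, abs_nonneg a]
    exact_mod_cast this
  have he' : (0 : ℝ) < e := by exact_mod_cast he
  have hh' : (p : ℝ) ^ 2 ≤ h := by exact_mod_cast hh
  have hep' : 2 * (e : ℝ) ≤ p + 1 := by exact_mod_cast hep
  have hp' : (3 : ℝ) ≤ p := by exact_mod_cast hp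
  have h1 : 2 * ((p : ℝ) - 1) ≤ ((h : ℝ) - 1) / e := by
    rw [le_div_iff₀ he']
    nlinarith
  have h2 : (a : ℝ) ≤ (a : ℝ) ^ 2 := by
    have : a ≤ a ^ 2 := by
      nlinarith [Int.one_le_abs ha, sq_abs a, le_abs_self a, abs_nonneg a]
    exact_mod_cast this
  nlinarith

/-- `b ≡ e (mod p)` with `3 ≤ e ≤ (p + 1) / 2` forces `5 e < 4 b²`. -/
theorem lt_of_congr {b : ℤ} {e p : ℕ} (he : 3 ≤ e) (hep : 2 * e ≤ p + 1) (h : (p : ℤ) ∣ b - e) :
    5 * (e : ℤ) < 4 * b ^ 2 := by
  have hb : (e : ℤ) - 1 ≤ |b| := by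
    by_contra hlt
    push Not at hlt
    have h1 : |b - e| < p := by
      have : |b - e| ≤ |b| + e := by
        have := abs_sub b (e : ℤ)
        simpa using this
      have h2 : (2 * (e : ℤ)) ≤ p + 1 := by exact_mod_cast hep
      omega
    have h2 : b - e = 0 := Int.eq_zero_of_abs_lt_dvd h h1
    have h3 : b = e := by omega
    rw [h3] at hlt
    rw [abs_of_nonneg (by positivity)] at hlt
    omega
  have he' : (3 : ℤ) ≤ e := by exact_mod_cast he
  nlinarith [sq_abs b, abs_nonneg b]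

/-! ### Congruences -/

/-- `z` is divisible by `1 - ε`, `ε` a primitive `p`-th root of unity, in the algebraic integers. -/
def Dvd' (p : ℕ) (z : ℂ) : Prop :=
  ∃ ω : ℂ, IsIntegral ℤ ω ∧ z = (1 - Complex.exp (2 * Real.pi * Complex.I / p)) * ω

theorem Dvd'.add {p : ℕ} {z w : ℂ} (hz : Dvd' p z) (hw : Dvd' p w) : Dvd' p (z + w) := by
  obtain ⟨a, ha, rfl⟩ := hz
  obtain ⟨b, hb, rfl⟩ := hw
  exact ⟨a + b, ha.add hb, by ring⟩

theorem Dvd'.neg {p : ℕ} {z : ℂ} (hz : Dvd' p z) : Dvd' p (-z) := by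
  obtain ⟨a, ha, rfl⟩ := hz
  exact ⟨-a, ha.neg, by ring⟩

/-- `p` is divisible by `1 - ε`. -/
theorem Dvd'.of_mul {p : ℕ} (hp : p.Prime) {ω : ℂ} (hω : IsIntegral ℤ ω) : Dvd' p (p * ω) := by
  have hε : IsPrimitiveRoot (Complex.exp (2 * Real.pi * Complex.I / p)) p :=
    Complex.isPrimitiveRoot_exp p hp.ne_zero
  set ε := Complex.exp (2 * Real.pi * Complex.I / p) with hεdef
  have hint : IsIntegral ℤ ε := by
    refine ⟨Polynomial.X ^ p - 1, Polynomial.monic_X_pow_sub_C 1 hp.ne_zero, ?_⟩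
    simp [hε.pow_eq_one]
  have h0 : ∑ k ∈ Finset.range p, ε ^ k = 0 := hε.geom_sum_eq_zero hp.one_lt
  have h1 : (p : ℂ) = (1 - ε) * ∑ k ∈ Finset.range p, ∑ j ∈ Finset.range k, ε ^ j := by
    have h2 : (p : ℂ) = ∑ k ∈ Finset.range p, (1 - ε ^ k) := by
      rw [Finset.sum_sub_distrib, h0]
      simp
    rw [h2, Finset.mul_sum]
    refine Finset.sum_congr rfl fun k _ => ?_
    rw [mul_neg_geom_sum]
  refine ⟨(∑ k ∈ Finset.range p, ∑ j ∈ Finset.range k, ε ^ j) * ω, ?_, ?_⟩
  · refine IsIntegral.mul ?_ hω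
    exact IsIntegral.sum _ fun k _ => IsIntegral.sum _ fun j _ => hint.pow j
  · rw [← mul_assoc, ← h1]

/-- The values of a generalized character at `x y` and `y` agree modulo `1 - ε`. -/
theorem Dvd'.of_gen {χ : G → ℂ} (hχ : IsGeneralizedCharacter G χ) {p : ℕ} (hp : p.Prime) {x y : G}
    (hx : orderOf x = p) (hxy : x * y = y * x) : Dvd' p (χ (x * y) - χ y) :=
  S1494.result χ hχ p hp x y hx hxy

theorem Dvd'.int {p : ℕ} (hp : p.Prime) {n : ℤ} (h : Dvd' p (n : ℂ)) : (p : ℤ) ∣ n := by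
  obtain ⟨ω, hω, h⟩ := h
  exact S1495.result p hp n ω hω h

/-- The sum of a generalized character over a coset `g R`, where `x` of order `p` centralises `g`, normalises
`R` and has no nontrivial fixed point on `R`. -/
theorem sum_coset {χ : G → ℂ} (hχ : IsGeneralizedCharacter G χ) {p : ℕ} (hp : p.Prime) {x g : G}
    (hx : orderOf x = p) (hxg : x * g = g * x) (R : Subgroup G)
    (hR : ∀ u ∈ R, x * u * x⁻¹ ∈ R) (hfix : ∀ u ∈ R, x * u = u * x → u = 1) :
    Dvd' p (∑ᶠ u ∈ (R : Set G), χ (g * u) - χ g) := by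
  classical
  have : Fact p.Prime := ⟨hp⟩
  let P : Subgroup G := Subgroup.zpowers x
  have hP : IsPGroup p P := IsPGroup.of_card (n := 1) (by rw [Nat.card_zpowers, hx, pow_one])
  let X : Finset G := Finset.univ.filter fun u => u ∈ R ∧ u ≠ 1
  have hxpow : ∀ u ∈ P, (∀ y ∈ R, u * y * u⁻¹ ∈ R) ∧ u * g = g * u := by
    have hxn : x ∈ Subgroup.normalizer (R : Set G) := by
      have hfin : ∀ u ∈ R, x * u * x⁻¹ ∈ R := hR
      rw [Subgroup.mem_normalizer_iff]
      intro u
      refine ⟨hR u, fun hu => ?_⟩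
      have hmap : R.map (MulAut.conj x).toMonoidHom ≤ R := by
        rintro _ ⟨v, hv, rfl⟩
        exact hR v hv
      have hcard : Nat.card (R.map (MulAut.conj x).toMonoidHom) = Nat.card R :=
        Subgroup.card_map_of_injective (MulAut.conj x).injective
      have heq : R.map (MulAut.conj x).toMonoidHom = R :=
        Subgroup.eq_of_le_of_card_ge hmap hcard.ge
      rw [← heq] at hu
      obtain ⟨v, hv, hvu⟩ := hu
      have : v = u := (MulAut.conj x).injective hvu
      rwa [← this]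
    have hxc : x ∈ Subgroup.centralizer ({g} : Set G) := by
      rw [Subgroup.mem_centralizer_singleton_iff]
      exact hxg
    intro u hu
    have h1 : P ≤ Subgroup.normalizer (R : Set G) := Subgroup.zpowers_le.2 hxn
    have h2 : P ≤ Subgroup.centralizer ({g} : Set G) := Subgroup.zpowers_le.2 hxc
    exact ⟨fun y hy => (Subgroup.mem_normalizer_iff.1 (h1 hu) y).1 hy,
      Subgroup.mem_centralizer_singleton_iff.1 (h2 hu)⟩
  let f : G → integralClosure ℤ ℂ := fun u => ⟨χ (g * u), PF13.SumBound.gen_isIntegral hχ _⟩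
  obtain ⟨a, ha⟩ := Blocks.OrbitSum.sum_eq_smul_of_disjoint_centralizer P hP X
    (fun u hu y hy => by
      rw [Finset.mem_filter] at hy ⊢
      refine ⟨Finset.mem_univ _, (hxpow u hu).1 y hy.2.1, fun h => hy.2.2 ?_⟩
      exact conj_eq_one_iff.1 h)
    (fun y hy hyc => by
      rw [Finset.mem_filter] at hy
      apply hy.2.2
      refine hfix y hy.2.1 ?_
      exact Subgroup.mem_centralizer_iff.1 hyc x (Subgroup.mem_zpowers x))
    f (fun u hu y _ => by
      apply Subtype.ext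
      show χ (g * (u * y * u⁻¹)) = χ (g * y)
      have h1 := (hxpow u hu).2
      have h2 : g * (u * y * u⁻¹) = u * (g * y) * u⁻¹ := by
        rw [← mul_assoc, ← mul_assoc, ← h1]; group
      rw [h2]
      exact gen_isClassFunction hχ (g * y) u)
  have h1 : ∑ᶠ u ∈ (R : Set G), χ (g * u) = χ g + ∑ u ∈ X, χ (g * u) := by
    rw [DadeBasic.finsum_mem_eq_sum_ite, ← Finset.sum_filter]
    have h3 : (Finset.univ.filter fun u : G => u ∈ (R : Set G)) = insert 1 X := by
      ext u
      simp only [Finset.mem_filter, Finset.mem_univ, true_and, Finset.mem_insert, X, SetLike.mem_coe]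
      by_cases hu : u = 1
      · simp [hu, R.one_mem]
      · simp [hu]
    rw [h3, Finset.sum_insert (by simp [X]), mul_one]
  have h2 : ∑ u ∈ X, χ (g * u) = p * (a : ℂ) := by
    have h3 := congrArg (fun z : integralClosure ℤ ℂ => (z : ℂ)) ha
    simp only [AddSubmonoidClass.coe_finsetSum, f] at h3
    rw [h3]
    simp
  rw [h1, h2, add_sub_cancel_left]
  exact Dvd'.of_mul hp a.2

/-- The order of a finite group on which an automorphism of prime order `p` acts without fixed points. -/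
theorem card_congr_one {p : ℕ} (hp : p.Prime) {x : G}
    (hx : orderOf x = p) (R : Subgroup G)
    (hR : ∀ u ∈ R, x * u * x⁻¹ ∈ R) (hfix : ∀ u ∈ R, x * u = u * x → u = 1) :
    Dvd' p ((Nat.card R : ℂ) - 1) := by
  classical
  have h := sum_coset (χ := (1 : G → ℂ)) gen_one hp hx (g := 1) (by simp) R hR hfix
  have h1 : ∑ᶠ u ∈ (R : Set G), (1 : G → ℂ) (1 * u) = (Nat.card R : ℂ) := by
    rw [DadeBasic.finsum_mem_eq_sum_ite, ← Finset.sum_filter]
    simp only [Pi.one_apply, Finset.sum_const, nsmul_eq_mul, mul_one]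
    rw [Nat.card_eq_fintype_card, Fintype.card_subtype]
    rfl
  rw [h1] at h
  simpa using h

theorem Dvd'.mul_int {p : ℕ} {z : ℂ} (hz : Dvd' p z) (n : ℤ) : Dvd' p (n * z) := by
  obtain ⟨a, ha, rfl⟩ := hz
  exact ⟨n * a, (isIntegral_algebraMap (R := ℤ) (x := n)).mul ha, by ring⟩

/-! ### The contradiction -/

/-- Peterfalvi (12.13)–(12.16), abstract form. -/
theorem contradiction {L H : Subgroup G} [Fintype ↥L] {R : G → Subgroup G}
    {ν : (↥L → ℂ) → (G → ℂ)} {ζ : ↥L → ℂ} (hC : CohHyp L H R ν ζ) (hζ : conjFun ζ ≠ ζ)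
    {M K : Subgroup G} [Fintype ↥M] {R' : G → Subgroup G} (hKM : K ≤ M)
    (hD : DadeHypothesis (sharp K) M R')
    (hdisj : Disjoint (dadeSupport (sharp H) R) (dadeSupport (sharp K) R'))
    {p : ℕ} (hp : p.Prime) (hp3 : 3 ≤ p) {x : G} (hx : orderOf x = p) (hxH : x ∈ H)
    (hconst : ∀ u ∈ R x, ν ζ (x * u) = ν ζ x)
    {g : G} (hgK : g ∈ K) (hgK' : g ∉ ⁅K, K⁆) (hxg : x * g = g * x) (hxg' : ν ζ (x * g) = ν ζ x)
    (hfix : ∀ u ∈ R' g, x * u = u * x → u = 1)
    (b : ℤ) (hb : ∀ (k : G) (hk : k ∈ K), k ∉ ⁅K, K⁆ → rho (sharp K) M R' (ν ζ) ⟨k, hKM hk⟩ = b)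
    (he : 3 ≤ H.relIndex L) (hep : 2 * H.relIndex L ≤ p + 1) (hh : p ^ 2 ≤ Nat.card H)
    (hidx : 5 ≤ (⁅K, K⁆).relIndex K) (hcard : Nat.card M ≤ Nat.card K * Nat.card H) : False := by
  classical
  set e := H.relIndex L with hedef
  have hxL : x ∈ L := hC.le hxH
  have hx1 : x ≠ 1 := by
    rintro rfl
    rw [orderOf_one] at hx
    exact hp.one_lt.ne hx
  have hxs : x ∈ sharp H := ⟨hxH, hx1⟩
  have hgs : g ∈ sharp K := ⟨hgK, fun h => hgK' (by rw [Set.mem_singleton_iff.1 h]; exact one_mem _)⟩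
  have hgen : IsGeneralizedCharacter G (ν ζ) := nu_gen hC hC.mem
  have hcf : IsClassFunction G (ν ζ) := gen_isClassFunction hgen
  -- `a = 0`
  obtain ⟨a, ha, -⟩ := exists_a hC
  obtain ⟨Γ, -, -, -, -, hΓ⟩ := exists_gamma hC hζ ha
  have ha0 : a = 0 := by
    refine a_eq_zero (e := e) (h := Nat.card H) (p := p) (by omega) hep hp3 hh ?_
    have h1 := classInner_self_re_nonneg Γ
    rw [hΓ] at h1
    have h2 : ((e : ℂ) - 1 + 2 * (a : ℂ) - (a : ℂ) ^ 2 * (((Nat.card H : ℂ) - 1) / (e : ℂ))) =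
        ((((e : ℝ) - 1 + 2 * (a : ℝ) - (a : ℝ) ^ 2 * (((Nat.card H : ℝ) - 1) / (e : ℝ)) : ℝ)) : ℂ) := by
      push_cast; ring
    rw [h2, Complex.ofReal_re] at h1
    exact h1
  -- the value at `x`
  have hvx : ν ζ x = ζ ⟨x, hxL⟩ := by
    have h1 := rho_nu_zeta hC ha (x := ⟨x, hxL⟩) hxs
    rw [ha0, Int.cast_zero, add_zero] at h1
    rw [← h1]
    exact (PF7Rho.rho_of_const (A := sharp H) (R := R) (ν ζ) (a := (⟨x, hxL⟩ : L)) hxs (ν ζ x) hconst).symm
  have hζgen : IsGeneralizedCharacter L ζ := gen_of_irr hC.irr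
  have hζx : Dvd' p (ζ ⟨x, hxL⟩ - e) := by
    have h1 := Dvd'.of_gen hζgen hp (x := (⟨x, hxL⟩ : L)) (y := 1)
      (by rw [← hx]; exact Subgroup.orderOf_mk x hxL) (by simp)
    rw [mul_one, hC.deg] at h1
    exact h1
  -- the value at `g`
  have hvg : Dvd' p (ν ζ g - e) := by
    have h1 := Dvd'.of_gen hgen hp hx hxg
    rw [hxg', hvx] at h1
    have h2 := h1.neg.add hζx
    have h3 : -(ζ ⟨x, hxL⟩ - ν ζ g) + (ζ ⟨x, hxL⟩ - (e : ℂ)) = ν ζ g - e := by ring
    rwa [h3] at h2
  have hRg : ∀ u ∈ R' g, x * u * x⁻¹ ∈ R' g := fun u hu =>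
    hD.conj_mem_H g hgs x (Subgroup.mem_centralizer_singleton_iff.2 hxg) u hu
  -- `b ≡ e (mod p)`
  have hbe : (p : ℤ) ∣ b - e := by
    apply Dvd'.int hp
    have h1 := sum_coset hgen hp hx hxg (R' g) hRg hfix
    have h2 := card_congr_one hp hx (R' g) hRg hfix
    have h3 := hb g hgK hgK'
    rw [PF7Rho.rho_mem (A := sharp K) (R := R') (ν ζ) (a := (⟨g, hKM hgK⟩ : M)) hgs] at h3
    have h4 : (Nat.card (R' g) : ℂ) ≠ 0 := Nat.cast_ne_zero.2 Nat.card_pos.ne'
    have h5 : ∑ᶠ u ∈ (R' g : Set G), ν ζ (g * u) = (Nat.card (R' g) : ℂ) * b := by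
      rw [← h3]
      field_simp
    rw [h5] at h1
    have h6 := ((h2.mul_int b).neg.add h1).add hvg
    have h7 : -((b : ℂ) * ((Nat.card (R' g) : ℂ) - 1)) + ((Nat.card (R' g) : ℂ) * b - ν ζ g) +
        (ν ζ g - e) = ((b - e : ℤ) : ℂ) := by
      push_cast; ring
    rwa [h7] at h6
  have hlt := lt_of_congr he hep hbe
  -- norms
  have hnorm : classInner (ν ζ) (ν ζ) = 1 := by
    rw [hC.isom.2.2.1 ζ (zspan_subset hC.mem) ζ (zspan_subset hC.mem)]
    exact classInner_irr_self hC.irr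
  have hL := norm_rho_nu_zeta hC (by
    have : 2 * e + 1 ≤ p ^ 2 := by nlinarith
    omega)
  have hL2 := PF7Rho.norm_rho_le hC.dade hcf
  have hK2 := PF7Rho.norm_rho_le hD hcf
  have hsum : (Nat.card G : ℝ)⁻¹ * ∑ᶠ g ∈ dadeSupport (sharp H) R, ‖ν ζ g‖ ^ 2 +
      (Nat.card G : ℝ)⁻¹ * ∑ᶠ g ∈ dadeSupport (sharp K) R', ‖ν ζ g‖ ^ 2 ≤ 1 := by
    have h1 : (classInner (ν ζ) (ν ζ)).re = 1 := by rw [hnorm]; rfl
    rw [classInner_self_eq, Complex.ofReal_re] at h1
    rw [← mul_add, ← h1]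
    refine mul_le_mul_of_nonneg_left ?_ (by positivity)
    rw [DadeBasic.finsum_mem_eq_sum_ite, DadeBasic.finsum_mem_eq_sum_ite, ← Finset.sum_add_distrib]
    refine Finset.sum_le_sum fun y _ => ?_
    by_cases h1 : y ∈ dadeSupport (sharp H) R
    · have h2 : y ∉ dadeSupport (sharp K) R' := Set.disjoint_left.1 hdisj h1
      rw [if_pos h1, if_neg h2, add_zero]
    · rw [if_neg h1, zero_add]
      split_ifs
      · exact le_rfl
      · positivity
  have hK3 : (Nat.card M : ℝ)⁻¹ * (((Nat.card K : ℝ) - Nat.card ↥⁅K, K⁆) * (b : ℝ) ^ 2) ≤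
      (classInner (rho (sharp K) M R' (ν ζ)) (rho (sharp K) M R' (ν ζ))).re := by
    rw [classInner_self_eq, Complex.ofReal_re]
    refine mul_le_mul_of_nonneg_left ?_ (by positivity)
    let X : Finset M := Finset.univ.filter fun y : M => (y : G) ∈ K ∧ (y : G) ∉ ⁅K, K⁆
    have hX : (X.card : ℝ) = (Nat.card K : ℝ) - Nat.card ↥⁅K, K⁆ := by
      have hle : ⁅K, K⁆ ≤ K := Subgroup.commutator_le_self K
      have h1 : Nat.card K = X.card + Nat.card ↥⁅K, K⁆ := by
        have e1 : Nat.card K = (Finset.univ.filter fun y : M => (y : G) ∈ K).card := by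
          rw [← Fintype.card_subtype, ← Nat.card_eq_fintype_card]
          exact Nat.card_congr ⟨fun k => ⟨⟨k, hKM k.2⟩, k.2⟩, fun y => ⟨y.1, y.2⟩,
            fun _ => rfl, fun _ => rfl⟩
        have e2 : Nat.card ↥⁅K, K⁆ =
            (Finset.univ.filter fun y : M => (y : G) ∈ ⁅K, K⁆).card := by
          rw [← Fintype.card_subtype, ← Nat.card_eq_fintype_card]
          exact Nat.card_congr ⟨fun k => ⟨⟨k, hKM (hle k.2)⟩, k.2⟩, fun y => ⟨y.1, y.2⟩,
            fun _ => rfl, fun _ => rfl⟩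
        rw [e1, e2, ← Finset.card_union_of_disjoint]
        · congr 1
          ext y
          simp only [Finset.mem_filter, Finset.mem_univ, true_and, Finset.mem_union, X]
          constructor
          · intro h
            by_cases h' : (y : G) ∈ ⁅K, K⁆
            · exact Or.inr h'
            · exact Or.inl ⟨h, h'⟩
          · rintro (h | h)
            · exact h.1
            · exact hle h
        · rw [Finset.disjoint_left]
          intro y hy hy'
          simp only [Finset.mem_filter, Finset.mem_univ, true_and, X] at hy hy'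
          exact hy.2 hy'
      rw [h1]; push_cast; ring
    calc ((Nat.card K : ℝ) - Nat.card ↥⁅K, K⁆) * (b : ℝ) ^ 2
        = ∑ y ∈ X, ‖rho (sharp K) M R' (ν ζ) y‖ ^ 2 := by
          rw [← hX, Finset.sum_congr rfl (g := fun _ => (b : ℝ) ^ 2), Finset.sum_const, nsmul_eq_mul]
          intro y hy
          simp only [Finset.mem_filter, Finset.mem_univ, true_and, X] at hy
          have h1 := hb y hy.1 hy.2
          have h2 : rho (sharp K) M R' (ν ζ) y = (b : ℂ) := h1
          rw [h2, Complex.norm_intCast, sq_abs]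
      _ ≤ ∑ y : M, ‖rho (sharp K) M R' (ν ζ) y‖ ^ 2 :=
          Finset.sum_le_univ_sum_of_nonneg fun _ => by positivity
  -- final computation
  have hfin : (Nat.card M : ℝ)⁻¹ * (((Nat.card K : ℝ) - Nat.card ↥⁅K, K⁆) * (b : ℝ) ^ 2) ≤
      (e : ℝ) / Nat.card H := by
    linarith
  have hKpos : (0 : ℝ) < Nat.card K := by exact_mod_cast Nat.card_pos
  have hHpos : (0 : ℝ) < Nat.card H := by exact_mod_cast Nat.card_pos
  have hMpos : (0 : ℝ) < Nat.card M := by exact_mod_cast Nat.card_pos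
  have hK' : 5 * (Nat.card ↥⁅K, K⁆ : ℝ) ≤ Nat.card K := by
    have h1 : Nat.card ↥⁅K, K⁆ * (⁅K, K⁆).relIndex K = Nat.card K := by
      rw [← Subgroup.relIndex_bot_left, ← Subgroup.relIndex_bot_left]
      exact Subgroup.relIndex_mul_relIndex ⊥ ⁅K, K⁆ K bot_le (Subgroup.commutator_le_self K)
    have h2 : 5 * Nat.card ↥⁅K, K⁆ ≤ Nat.card K := by
      rw [← h1, mul_comm]
      exact Nat.mul_le_mul_left _ hidx
    exact_mod_cast h2
  have hcard' : (Nat.card M : ℝ) ≤ Nat.card K * Nat.card H := by exact_mod_cast hcard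
  have hlt' : 5 * (e : ℝ) < 4 * (b : ℝ) ^ 2 := by exact_mod_cast hlt
  rw [inv_mul_le_iff₀ hMpos, mul_div_assoc', le_div_iff₀ hHpos] at hfin
  have h1 : (Nat.card M : ℝ) * e ≤ Nat.card K * Nat.card H * e :=
    mul_le_mul_of_nonneg_right hcard' (by positivity)
  have h2 : ((Nat.card K : ℝ) - Nat.card ↥⁅K, K⁆) * (b : ℝ) ^ 2 * Nat.card H ≤
      Nat.card K * e * Nat.card H := by
    calc _ ≤ (Nat.card M : ℝ) * e := hfin
      _ ≤ Nat.card K * Nat.card H * e := h1
      _ = Nat.card K * e * Nat.card H := by ring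
  have h3 : ((Nat.card K : ℝ) - Nat.card ↥⁅K, K⁆) * (b : ℝ) ^ 2 ≤ Nat.card K * e :=
    le_of_mul_le_mul_right h2 hHpos
  have h4 : 4 * (Nat.card K : ℝ) * (b : ℝ) ^ 2 ≤
      5 * (((Nat.card K : ℝ) - Nat.card ↥⁅K, K⁆) * (b : ℝ) ^ 2) := by
    nlinarith [sq_nonneg (b : ℝ)]
  nlinarith

end Cfsg.Agent.OddOrderCharacters.PF12.Final
end

-- part: OddOrderCharacters/TypeIVanish
section
/-!
# Peterfalvi (12.2)(a): characters of a group of Frobenius type

`L` a finite group, `H` a normal Hall subgroup, `N ≥ H` a subgroup with `N / H` abelian containing all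
elements `x` with `C_H(x) ≠ 1`.  Irreducible characters of `L` whose kernel does not contain `H` vanish at
every `x ≠ 1` with `C_H(x) = 1`; a character induced from a nonprincipal irreducible character of `H`
is a sum of distinct irreducible characters of the same degree.
-/

set_option autoImplicit false

open scoped ComplexConjugate
open Cfsg
open Cfsg.Agent.Characters.Core
open Cfsg.Agent.OddOrderCharacters.VChar
open Cfsg.Agent.OddOrderCharacters.IndRes

namespace Cfsg.Agent.OddOrderCharacters.TypeIVanish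

universe u

/-- The irreducible characters of `L` whose kernel does not contain `H`. -/
def calI {L : Type u} [Group L] (H : Subgroup L) : Set (L → ℂ) :=
  {χ | IsIrrCharacter L χ ∧ ∃ h ∈ H, χ h ≠ χ 1}

theorem mem_calI {L : Type u} [Group L] {H : Subgroup L} {χ : L → ℂ} :
    χ ∈ calI H ↔ IsIrrCharacter L χ ∧ ∃ h ∈ H, χ h ≠ χ 1 := Iff.rfl

/-- The sum of an irreducible character over any coset of a normal subgroup outside the kernel
vanishes. -/
theorem sum_coset_eq_zero {L : Type u} [Group L] [Finite L] (H : Subgroup L) [hH : H.Normal]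
    {χ : L → ℂ} (hχ : IsIrrCharacter L χ) (hker : ∃ h ∈ H, χ h ≠ χ 1) (S : Finset L)
    (hS : ∀ x, x ∈ S ↔ x ∈ H) (x : L) : ∑ h ∈ S, χ (x * h) = 0 := by
  obtain ⟨n, ρ, hρ, rfl⟩ := hχ
  have hS' : ∀ g : L, ∀ y ∈ S, g * y * g⁻¹ ∈ S := by
    intro g y hy
    rw [hS] at hy ⊢
    exact hH.conj_mem y hy g
  obtain ⟨c, hc⟩ := ClassSum.invariant_sum_scalar ρ hρ S hS'
  have hirr : IsIrrCharacter L ρ.character := ⟨n, ρ, hρ, rfl⟩
  have h0 : ∑ a ∈ S, ρ.character a = 0 := by
    rcases InducedSum.ker_or_sum_eq_zero hirr H S hS with h | h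
    · obtain ⟨h', hh', hne⟩ := hker
      exact absurd (h h' hh') hne
    · exact h
  have h1 : ∑ a ∈ S, ρ.character a = c * ρ.character 1 := by
    have : ∑ a ∈ S, ρ.character a = LinearMap.trace ℂ _ (∑ a ∈ S, ρ a) := by
      rw [map_sum]
      rfl
    rw [this, hc, map_smul, smul_eq_mul, ← map_one ρ]
    rfl
  have hc0 : c = 0 := by
    rw [h0] at h1
    rcases mul_eq_zero.1 h1.symm with h | h
    · exact h
    · exact absurd h (isIrr_apply_one_ne_zero hirr)
  have h2 : ∑ h ∈ S, ρ.character (x * h) = LinearMap.trace ℂ _ (ρ x * ∑ a ∈ S, ρ a) := by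
    rw [Finset.mul_sum, map_sum]
    refine Finset.sum_congr rfl fun a _ => ?_
    rw [← map_mul]
    rfl
  rw [h2, hc, hc0]
  simp

/-- If no non-identity element of the finite normal subgroup `H` commutes with `x`, then every
element of the coset `x H` is conjugate to `x` by an element of `H`. -/
theorem exists_conj_of_fpf {L : Type u} [Group L] [Finite L] (H : Subgroup L) [hH : H.Normal]
    {x : L} (hx : ∀ h ∈ H, x * h = h * x → h = 1) {h : L} (hh : h ∈ H) :
    ∃ k ∈ H, k * x * k⁻¹ = x * h := by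
  classical
  have hmem : ∀ k : H, x⁻¹ * (k : L) * x * (k : L)⁻¹ ∈ H := by
    intro k
    have := hH.conj_mem k k.2 x⁻¹
    rw [inv_inv] at this
    exact H.mul_mem this (H.inv_mem k.2)
  let f : H → H := fun k => ⟨x⁻¹ * (k : L) * x * (k : L)⁻¹, hmem k⟩
  have hf : Function.Injective f := by
    intro a b hab
    have hab' : x⁻¹ * (a : L) * x * (a : L)⁻¹ = x⁻¹ * (b : L) * x * (b : L)⁻¹ :=
      congrArg Subtype.val hab
    have h1 : (b : L)⁻¹ * a = 1 := by
      apply hx _ (H.mul_mem (H.inv_mem b.2) a.2)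
      have h2 : (a : L) * x * (a : L)⁻¹ = (b : L) * x * (b : L)⁻¹ := by
        have := congrArg (fun z => x * z) hab'
        simpa [mul_assoc] using this
      calc x * ((b : L)⁻¹ * a) = (b : L)⁻¹ * ((b : L) * x * (b : L)⁻¹) * a := by group
        _ = (b : L)⁻¹ * ((a : L) * x * (a : L)⁻¹) * a := by rw [h2]
        _ = (b : L)⁻¹ * a * x := by group
    apply Subtype.ext
    exact (eq_of_inv_mul_eq_one h1).symm
  have hfs : Function.Surjective f := Finite.surjective_of_injective hf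
  obtain ⟨k, hk⟩ := hfs ⟨h, hh⟩
  refine ⟨k, k.2, ?_⟩
  have hk' : x⁻¹ * (k : L) * x * (k : L)⁻¹ = h := congrArg Subtype.val hk
  rw [← hk']
  group

/-- Irreducible characters whose kernel does not contain the normal subgroup `H` vanish at the
elements acting without fixed points on `H`. -/
theorem vanish {L : Type u} [Group L] [Finite L] (H : Subgroup L) [hH : H.Normal]
    {χ : L → ℂ} (hχ : χ ∈ calI H) {x : L} (hx : ∀ h ∈ H, x * h = h * x → h = 1) : χ x = 0 := by
  classical
  have := Fintype.ofFinite L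
  have h1 := sum_coset_eq_zero H hχ.1 hχ.2 (Finset.univ.filter (· ∈ H)) (by simp) x
  have h2 : ∀ h ∈ Finset.univ.filter (· ∈ H), χ (x * h) = χ x := by
    intro h hh
    obtain ⟨k, -, hk⟩ := exists_conj_of_fpf H hx (by simpa using hh : h ∈ H)
    rw [← hk]
    exact isIrr_isClassFunction hχ.1 x k
  rw [Finset.sum_congr rfl h2, Finset.sum_const, nsmul_eq_mul] at h1
  rcases mul_eq_zero.1 h1 with h | h
  · exfalso
    have : (Finset.univ.filter (· ∈ H)).card ≠ 0 := by
      rw [Finset.card_ne_zero]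
      exact ⟨1, by simp⟩
    exact this (by exact_mod_cast h)
  · exact h

/-- Frobenius-type hypothesis on a finite group `L` with normal Hall subgroup `H`: the elements `x`
with `C_H(x) ≠ 1` lie in a subgroup `N ≥ H` with `N / H` abelian. -/
structure TypeFHyp {L : Type u} [Group L] (H N : Subgroup L) : Prop where
  normal : H.Normal
  ne_bot : H ≠ ⊥
  hall : Nat.Coprime (Nat.card ↥H) H.index
  le : H ≤ N
  comm : ∀ x ∈ N, ∀ y ∈ N, x * y * x⁻¹ * y⁻¹ ∈ H
  cent : ∀ x : L, x ∉ N → ∀ h ∈ H, x * h = h * x → h = 1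

/-- Peterfalvi (12.2)(a): the character induced from a nonprincipal irreducible character of `H` is the
sum of a nonempty set of irreducible characters of the same degree, with kernels not containing `H`. -/
theorem exists_sum_irr {L : Type u} [Group L] [Fintype L] {H N : Subgroup L} (hF : TypeFHyp H N)
    {θ : ↥H → ℂ} (hθ : IsIrrCharacter ↥H θ) (hθ1 : θ ≠ fun _ => 1) :
    ∃ (C : Finset (L → ℂ)) (d : ℕ), C.Nonempty ∧ 0 < d ∧ (∀ χ ∈ C, χ ∈ calI H) ∧
      indFun H θ = ∑ χ ∈ C, χ ∧ ∀ χ ∈ C, χ 1 = (d : ℂ) := by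
  classical
  have hN := hF.normal
  let T : Subgroup L :=
    { carrier := {g | ∀ h : H, θ ⟨g * h * g⁻¹, hN.conj_mem h h.2 g⟩ = θ h}
      one_mem' := by
        intro h
        congr 1
        apply Subtype.ext
        simp
      mul_mem' := by
        intro a b ha hb h
        have h1 := ha ⟨b * h * b⁻¹, hN.conj_mem h h.2 b⟩
        rw [hb h] at h1
        rw [← h1]
        congr 1
        apply Subtype.ext
        simp [mul_assoc]
      inv_mem' := by
        intro a ha h
        have h1 := ha ⟨a⁻¹ * h * a⁻¹⁻¹, hN.conj_mem h h.2 a⁻¹⟩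
        rw [← h1]
        congr 1
        apply Subtype.ext
        simp [mul_assoc] }
  have hT : ∀ g : L, g ∈ T ↔ ∀ h : H, θ ⟨g * h * g⁻¹, hN.conj_mem h h.2 g⟩ = θ h :=
    fun g => Iff.rfl
  have hTN : T ≤ N := by
    intro x hx
    by_contra hxN
    obtain ⟨h, hh, hne, hc⟩ := (S1536.result H hF.hall x).1 ⟨θ, hθ, hθ1, funext hx⟩
    exact hne (hF.cent x hxN h hh hc)
  have hcop : Nat.Coprime (Nat.card H) (H.relIndex T) := by
    refine Nat.Coprime.coprime_dvd_right ?_ hF.hall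
    exact Subgroup.relIndex_dvd_index_of_normal H T
  obtain ⟨C, hC1, hC2, hC3, hC4⟩ := S1491.result H T θ hθ hT
    (fun x hx y hy => hF.comm x (hTN hx) y (hTN hy)) hcop
  obtain ⟨m, hm0, hm⟩ := isIrr_apply_one hθ
  refine ⟨C, T.index * m, ?_, ?_, ?_, hC3, ?_⟩
  · rw [← Finset.card_pos, hC2]
    exact Nat.pos_of_ne_zero (by
      rw [Subgroup.relIndex]
      exact Subgroup.index_ne_zero_of_finite)
  · exact Nat.mul_pos (Nat.pos_of_ne_zero Subgroup.index_ne_zero_of_finite) hm0
  · intro χ hχ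
    refine ⟨hC1 χ hχ, ?_⟩
    by_contra hcon
    push Not at hcon
    -- then the restriction of `χ` to `H` is a multiple of the principal character
    have h1 : classInner (indFun H θ) χ = classInner θ (res H χ) :=
      classInner_indFun_left H θ (isIrr_isClassFunction (hC1 χ hχ))
    have h2 : classInner (indFun H θ) χ = 1 := by
      rw [hC3, classInner_sum_left]
      rw [Finset.sum_eq_single χ]
      · exact classInner_irr_self (hC1 χ hχ)
      · intro b hb hne
        exact classInner_irr_ne (hC1 b hb) (hC1 χ hχ) hne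
      · intro h
        exact absurd hχ h
    have h3 : res H χ = (χ 1) • (fun _ => (1 : ℂ)) := by
      funext h
      rw [res_apply, hcon h h.2]
      simp
    rw [h2, h3, classInner_smul_right] at h1
    have h4 : classInner θ (fun _ => (1 : ℂ)) = 0 :=
      classInner_irr_ne hθ isIrr_one hθ1
    rw [h4, mul_zero] at h1
    exact one_ne_zero h1
  · intro χ hχ
    rw [hC4 χ hχ, hm]
    push_cast
    ring

end Cfsg.Agent.OddOrderCharacters.TypeIVanish
end

-- part: OddOrderCharacters/TypeISystem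
section
/-!
# Peterfalvi (12.2)(b): the coherence systems attached to a maximal subgroup of Type I

`TypeIHyp A L H N R`: Dade data `(A, L, R)` with `L` of Frobenius type (`H`, `N`) and
`A = {x ∈ L : x ≠ 1, C_H(x) ≠ 1}`.  The Dade map gives a coherence system on the irreducible characters
of `L` with kernel not containing `H` (`calI_system`), and from it one on the set of characters induced
from the nonprincipal irreducible characters of `H` (`calS_system`), where `R χ` is the union of the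
`R₁ φ`, `φ` a constituent of `χ`.
-/

set_option autoImplicit false
set_option linter.unusedSectionVars false

open scoped ComplexConjugate
open Cfsg
open Cfsg.Agent.Characters.Core
open Cfsg.Agent.OddOrderCharacters.VChar
open Cfsg.Agent.OddOrderCharacters.IndRes
open Cfsg.Agent.OddOrderCharacters.DadeBasic
open Cfsg.Agent.OddOrderCharacters.TypeIVanish

namespace Cfsg.Agent.OddOrderCharacters.TypeISystem

universe u

/-! ### The Dade isometry on integer combinations of degree zero -/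

section general

variable {G : Type u} [Group G] [Fintype G] {A : Set G} {L : Subgroup G} [Fintype ↥L]
  {R : G → Subgroup G}

/-- A member of `zspanOn S {1}ᶜ`, `S` a set of characters vanishing off `A ∪ {1}`, is a generalized
character vanishing off `A`. -/
theorem gen_and_support {S : Set (↥L → ℂ)} (hS : ∀ φ ∈ S, IsCharacter ↥L φ)
    (hA : ∀ φ ∈ S, ∀ x : ↥L, x ≠ 1 → (x : G) ∉ A → φ x = 0) {α : ↥L → ℂ}
    (hα : α ∈ zspanOn S {1}ᶜ) :
    IsGeneralizedCharacter ↥L α ∧ ∀ x : ↥L, (x : G) ∉ A → α x = 0 := by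
  rw [mem_zspanOn_one_iff] at hα
  refine ⟨gen_of_mem_zspan (fun χ hχ => gen_of_char (hS χ hχ)) hα.1, fun x hx => ?_⟩
  by_cases h1 : x = 1
  · rw [h1]; exact hα.2
  · refine VChar.zspan_induction (p := fun α => α x = 0) rfl (fun χ hχ => hA χ hχ x h1 hx) ?_ ?_ hα.1
    · intro a b _ _ ha hb
      rw [Pi.add_apply, ha, hb, add_zero]
    · intro n a _ ha
      rw [Pi.smul_apply, ha, smul_zero]

/-- The Dade map is a linear isometry on the integer combinations vanishing at `1` of a set of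
characters of `L` vanishing off `A ∪ {1}`. -/
theorem dade_isometryOn (hD : DadeHypothesis A L R) {S : Set (↥L → ℂ)}
    (hS : ∀ φ ∈ S, IsCharacter ↥L φ)
    (hA : ∀ φ ∈ S, ∀ x : ↥L, x ≠ 1 → (x : G) ∉ A → φ x = 0) :
    IsLinearIsometryOn (zspanOn S {1}ᶜ) (dadeIsometry A L R) := by
  refine ⟨?_, ?_, ?_, ?_⟩
  · intro α hα β hβ
    exact dadeIsometry_add hD (gen_isClassFunction (gen_and_support hS hA hα).1)
      (gen_isClassFunction (gen_and_support hS hA hβ).1)
  · intro α hα n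
    exact dadeIsometry_zsmul hD (gen_isClassFunction (gen_and_support hS hA hα).1) n
  · intro α hα β hβ
    exact classInner_dadeIsometry hD (gen_isClassFunction (gen_and_support hS hA hα).1)
      (gen_and_support hS hA hα).2 (gen_isClassFunction (gen_and_support hS hA hβ).1)
  · intro α hα
    exact S1501.result A L R hD α (gen_and_support hS hA hα).1 (gen_and_support hS hA hα).2

end general

/-! ### Sums of distinct irreducible characters -/

theorem classInner_sum_sum_irr {L : Type u} [Group L] [Fintype L] [DecidableEq (L → ℂ)]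
    {C D : Finset (L → ℂ)}
    (hC : ∀ φ ∈ C, IsIrrCharacter L φ) (hD : ∀ φ ∈ D, IsIrrCharacter L φ) :
    classInner (∑ φ ∈ C, φ) (∑ φ ∈ D, φ) = ((C ∩ D).card : ℂ) := by
  rw [classInner_sum_left]
  have h1 : ∀ φ ∈ C, classInner φ (∑ ψ ∈ D, ψ) = if φ ∈ D then 1 else 0 := by
    intro φ hφ
    rw [classInner_sum_right]
    split_ifs with h
    · rw [Finset.sum_eq_single φ]
      · exact classInner_irr_self (hC φ hφ)
      · intro b hb hne
        exact classInner_irr_ne (hC φ hφ) (hD b hb) (Ne.symm hne)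
      · intro h'
        exact absurd h h'
    · refine Finset.sum_eq_zero fun b hb => ?_
      exact classInner_irr_ne (hC φ hφ) (hD b hb) (fun he => h (he ▸ hb))
  rw [Finset.sum_congr rfl h1, Finset.sum_ite_mem, Finset.sum_const, nsmul_eq_mul, mul_one]

/-- If two sums of distinct irreducible characters are orthogonal, they have no common term. -/
theorem ne_of_inner_eq_zero {L : Type u} [Group L] [Fintype L]
    {C D : Finset (L → ℂ)}
    (hC : ∀ φ ∈ C, IsIrrCharacter L φ) (hD : ∀ φ ∈ D, IsIrrCharacter L φ)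
    (h0 : classInner (∑ φ ∈ C, φ) (∑ φ ∈ D, φ) = 0) {a b : L → ℂ} (ha : a ∈ C) (hb : b ∈ D) :
    a ≠ b := by
  classical
  intro hab
  rw [classInner_sum_sum_irr hC hD] at h0
  have h1 : (C ∩ D).card = 0 := by exact_mod_cast h0
  rw [Finset.card_eq_zero] at h1
  have : a ∈ C ∩ D := Finset.mem_inter.2 ⟨ha, hab ▸ hb⟩
  rw [h1] at this
  exact absurd this (Finset.notMem_empty _)

theorem conj_ne_of_inner_eq_zero {L : Type u} [Group L] [Fintype L]
    {C D : Finset (L → ℂ)}
    (hC : ∀ φ ∈ C, IsIrrCharacter L φ) (hD : ∀ φ ∈ D, IsIrrCharacter L φ)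
    (h0 : classInner (∑ φ ∈ C, φ) (conjFun (∑ φ ∈ D, φ)) = 0) {a b : L → ℂ} (ha : a ∈ C)
    (hb : b ∈ D) : a ≠ conjFun b := by
  classical
  have h1 : conjFun (∑ φ ∈ D, φ) = ∑ φ ∈ D.image conjFun, φ := by
    rw [conjFun_sum, Finset.sum_image (fun x _ y _ h => conjFun_injective h)]
  rw [h1] at h0
  refine ne_of_inner_eq_zero hC ?_ h0 ha (Finset.mem_image_of_mem _ hb)
  intro φ hφ
  obtain ⟨ψ, hψ, rfl⟩ := Finset.mem_image.1 hφ
  exact isIrr_conjFun (hD ψ hψ)

/-! ### The Type I hypothesis -/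

/-- Dade data `(A, L, R)` where `L` has odd order and is of Frobenius type with respect to `H`, `N` and
`A` is the set of the elements `x ≠ 1` of `L` commuting with a non-identity element of `H`. -/
structure TypeIHyp {G : Type u} [Group G] (A : Set G) (L : Subgroup G) (H N : Subgroup ↥L)
    (R : G → Subgroup G) : Prop where
  dade : DadeHypothesis A L R
  odd : Odd (Nat.card ↥L)
  typeF : TypeFHyp H N
  mem_A : ∀ x : ↥L, (x : G) ∈ A ↔ x ≠ 1 ∧ ∃ h ∈ H, h ≠ 1 ∧ x * h = h * x

section typeI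

variable {G : Type u} [Group G] [Fintype G] {A : Set G} {L : Subgroup G} [Fintype ↥L]
  {H N : Subgroup ↥L} {R : G → Subgroup G}

theorem mem_A_of_mem_H (h : TypeIHyp A L H N R) {x : ↥L} (hx : x ∈ H) (h1 : x ≠ 1) :
    (x : G) ∈ A :=
  (h.mem_A x).2 ⟨h1, x, hx, h1, rfl⟩

/-- (12.2)(a): members of `calI H` vanish off `A ∪ {1}`. -/
theorem calI_vanish (h : TypeIHyp A L H N R) {φ : ↥L → ℂ} (hφ : φ ∈ calI H) {x : ↥L}
    (h1 : x ≠ 1) (hx : (x : G) ∉ A) : φ x = 0 := by
  have := h.typeF.normal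
  refine vanish H hφ ?_
  intro k hk hc
  by_contra hne
  exact hx ((h.mem_A x).2 ⟨h1, k, hk, hne, hc⟩)

theorem exists_nonprincipal (h : TypeIHyp A L H N R) :
    ∃ θ : ↥H → ℂ, IsIrrCharacter ↥H θ ∧ θ ≠ fun _ => 1 := by
  have := h.typeF.normal
  obtain ⟨k, hk, hk1⟩ : ∃ k : ↥L, k ∈ H ∧ k ≠ 1 := by
    obtain ⟨k, hk⟩ := Subgroup.ne_bot_iff_exists_ne_one.1 h.typeF.ne_bot
    exact ⟨k, k.2, fun h' => hk (Subtype.ext h')⟩
  obtain ⟨θ, h1, h2, -⟩ := (S1536.result H h.typeF.hall 1).2 ⟨k, hk, hk1, by simp⟩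
  exact ⟨θ, h1, h2⟩

theorem conjFun_mem_calI {φ : ↥L → ℂ} (hφ : φ ∈ calI H) : conjFun φ ∈ calI H := by
  obtain ⟨h1, k, hk, hne⟩ := hφ
  refine ⟨isIrr_conjFun h1, k, hk, fun he => hne ?_⟩
  rw [conjFun_apply, conjFun_apply] at he
  exact (starRingEnd ℂ).injective he

theorem conjFun_ne (hodd : Odd (Nat.card ↥L)) {φ : ↥L → ℂ} (hφ : φ ∈ calI H) :
    conjFun φ ≠ φ := by
  intro he
  have h1 : φ = fun _ => 1 := by
    refine S0161.result hodd ⟨φ, hφ.1⟩ (fun g => ?_)
    have := congrFun he g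
    rw [conjFun_apply] at this
    exact Complex.conj_eq_iff_im.1 this
  obtain ⟨-, k, -, hne⟩ := hφ
  exact hne (by rw [h1])

/-- Peterfalvi (12.2)(b), first half: the Dade map gives a coherence system on the irreducible
characters of `L` with kernel not containing `H`. -/
theorem exists_calI_system (h : TypeIHyp A L H N R) :
    ∃ R₁ : (↥L → ℂ) → Finset (G → ℂ), IsCoherenceSystem (calI H) (dadeIsometry A L R) R₁ := by
  refine S1514.result (calI H) ?_ (fun χ hχ => hχ.1)
    (fun χ hχ => ⟨conjFun_mem_calI hχ, conjFun_ne h.odd hχ⟩) _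
    (dade_isometryOn h.dade (fun φ hφ => isIrr_isCharacter hφ.1)
      (fun φ hφ x h1 hx => calI_vanish h hφ h1 hx))
    (fun α _ => dadeIsometry_one h.dade α)
  obtain ⟨θ, hθ, hθ1⟩ := exists_nonprincipal h
  obtain ⟨C, d, ⟨χ, hχ⟩, -, hC, -⟩ := exists_sum_irr h.typeF hθ hθ1
  exact ⟨χ, hC χ hχ⟩

theorem isCharacter_of_mem {χ : ↥L → ℂ} (hχ : χ ∈ inducedIrrAbove H ⊥) : IsCharacter ↥L χ := by
  obtain ⟨θ, hθ, -, -, rfl⟩ := hχ
  exact isCharacter_indFun H (isIrr_isCharacter hθ)

theorem vanish_off_H (hH : H.Normal) {χ : ↥L → ℂ} (hχ : χ ∈ inducedIrrAbove H ⊥) {x : ↥L}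
    (hx : x ∉ H) : χ x = 0 := by
  obtain ⟨θ, -, -, -, rfl⟩ := hχ
  exact NormalInduced.indFun_of_notMem H θ hx

theorem orthogonal_of_ne (hH : H.Normal) {χ φ : ↥L → ℂ} (hχ : χ ∈ inducedIrrAbove H ⊥)
    (hφ : φ ∈ inducedIrrAbove H ⊥) (hne : χ ≠ φ) : classInner χ φ = 0 := by
  obtain ⟨θ, hθ, -, -, rfl⟩ := hχ
  obtain ⟨η, hη, -, -, rfl⟩ := hφ
  rcases indFun_eq_or_classInner_eq_zero H hθ hη with h | h
  · exact absurd h hne
  · exact h

theorem inner_conj_eq_zero (h : TypeIHyp A L H N R) {χ : ↥L → ℂ}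
    (hχ : χ ∈ inducedIrrAbove H ⊥) : classInner χ (conjFun χ) = 0 := by
  have := h.typeF.normal
  obtain ⟨θ, hθ, hθ1, -, rfl⟩ := hχ
  have := S0194.result h.odd H θ hθ hθ1
  exact classInner_comm_eq_zero this

/-- A choice of the set of constituents of the members of `inducedIrrAbove H ⊥`. -/
structure IsConst (H : Subgroup ↥L) (C : (↥L → ℂ) → Finset (↥L → ℂ)) : Prop where
  nonempty : ∀ χ ∈ inducedIrrAbove H ⊥, (C χ).Nonempty
  mem : ∀ χ ∈ inducedIrrAbove H ⊥, ∀ φ ∈ C χ, φ ∈ calI H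
  sum_eq : ∀ χ ∈ inducedIrrAbove H ⊥, χ = ∑ φ ∈ C χ, φ
  degree : ∀ χ ∈ inducedIrrAbove H ⊥, ∀ φ ∈ C χ, ∀ ψ ∈ C χ, φ 1 = ψ 1

theorem exists_isConst (hF : TypeFHyp H N) : ∃ C, IsConst H C := by
  classical
  have key : ∀ χ : ↥L → ℂ, ∃ C : Finset (↥L → ℂ), χ ∈ inducedIrrAbove H ⊥ →
      C.Nonempty ∧ (∀ φ ∈ C, φ ∈ calI H) ∧ χ = ∑ φ ∈ C, φ ∧
        ∀ φ ∈ C, ∀ ψ ∈ C, φ 1 = ψ 1 := by
    intro χ
    by_cases hχ : χ ∈ inducedIrrAbove H ⊥
    · obtain ⟨θ, hθ, hθ1, -, rfl⟩ := hχ
      obtain ⟨C, d, h1, -, h2, h3, h4⟩ := exists_sum_irr hF hθ hθ1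
      exact ⟨C, fun _ => ⟨h1, h2, h3, fun φ hφ ψ hψ => (h4 φ hφ).trans (h4 ψ hψ).symm⟩⟩
    · exact ⟨∅, fun h => absurd h hχ⟩
  choose C hC using key
  exact ⟨C, fun χ hχ => (hC χ hχ).1, fun χ hχ => (hC χ hχ).2.1, fun χ hχ => (hC χ hχ).2.2.1,
    fun χ hχ => (hC χ hχ).2.2.2⟩

open Classical in
/-- Peterfalvi (12.2)(b): the coherence system on `inducedIrrAbove H ⊥` with `R χ` the union of the
`R₁ φ` over the constituents `φ` of `χ`. -/
theorem calS_system (h : TypeIHyp A L H N R) {R₁ : (↥L → ℂ) → Finset (G → ℂ)}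
    (hR₁ : IsCoherenceSystem (calI H) (dadeIsometry A L R) R₁)
    {C : (↥L → ℂ) → Finset (↥L → ℂ)} (hC : IsConst H C) :
    IsCoherenceSystem (inducedIrrAbove H ⊥) (dadeIsometry A L R)
      (fun χ => (C χ).biUnion R₁) := by
  have hH := h.typeF.normal
  have hconj : ∀ χ ∈ inducedIrrAbove H ⊥, ∀ a ∈ C χ, ∀ b ∈ C χ, a ≠ conjFun b := by
    intro χ hχ a ha b hb
    refine conj_ne_of_inner_eq_zero (C := C χ) (D := C χ) (fun φ hφ => (hC.mem χ hχ φ hφ).1)
      (fun φ hφ => (hC.mem χ hχ φ hφ).1) ?_ ha hb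
    rw [← hC.sum_eq χ hχ]
    exact inner_conj_eq_zero h hχ
  have hdisj : ∀ a ∈ calI H, ∀ b ∈ calI H, a ≠ b → a ≠ conjFun b →
      ∀ α ∈ R₁ a, ∀ β ∈ R₁ b, classInner α β = 0 := by
    intro a ha b hb h1 h2
    exact hR₁.disjoint b hb a ha (classInner_irr_ne ha.1 hb.1 h1)
      (classInner_irr_ne ha.1 (isIrr_conjFun hb.1) h2)
  have hself : ∀ a ∈ calI H, ∀ α ∈ R₁ a, classInner α α = 1 := by
    intro a ha α hα
    rw [hR₁.orthonormal a ha α hα α hα, if_pos rfl]
  refine
    { nonempty := ?_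
      isCharacter := fun χ hχ => isCharacter_of_mem hχ
      conj_mem := fun χ hχ => SystemRestrict.conjFun_mem_inducedIrrAbove hχ
      conj_ne := ?_
      isometry := ?_
      map_one := fun α _ => dadeIsometry_one h.dade α
      orthogonal := fun χ hχ φ hφ hne => orthogonal_of_ne hH hχ hφ hne
      orthonormal := ?_
      virtual := ?_
      sum_eq := ?_
      disjoint := ?_ }
  · obtain ⟨θ, hθ, hθ1⟩ := exists_nonprincipal h
    refine ⟨indFun H θ, θ, hθ, hθ1, fun a ha => ?_, rfl⟩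
    rw [Subgroup.mem_bot] at ha
    congr 1
    exact Subtype.ext ha
  · intro χ hχ he
    have h1 := inner_conj_eq_zero h hχ
    rw [he] at h1
    have h2 := classInner_self_eq_zero h1
    obtain ⟨φ, hφ⟩ := hC.nonempty χ hχ
    have h3 : classInner χ φ = 1 := by
      rw [hC.sum_eq χ hχ, classInner_sum_left, Finset.sum_eq_single φ]
      · exact classInner_irr_self (hC.mem χ hχ φ hφ).1
      · intro b hb hne
        exact classInner_irr_ne (hC.mem χ hχ b hb).1 (hC.mem χ hχ φ hφ).1 hne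
      · intro h'; exact absurd hφ h'
    rw [h2, classInner_zero_left] at h3
    exact zero_ne_one h3
  · refine dade_isometryOn h.dade (fun φ hφ => isCharacter_of_mem hφ) ?_
    intro φ hφ x h1 hx
    exact vanish_off_H hH hφ (fun hxH => hx (mem_A_of_mem_H h hxH h1))
  · intro χ hχ α hα β hβ
    obtain ⟨a, ha, hαa⟩ := Finset.mem_biUnion.1 hα
    obtain ⟨b, hb, hβb⟩ := Finset.mem_biUnion.1 hβ
    by_cases hab : a = b
    · subst hab
      exact hR₁.orthonormal a (hC.mem χ hχ a ha) α hαa β hβb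
    · have h0 := hdisj a (hC.mem χ hχ a ha) b (hC.mem χ hχ b hb) hab (hconj χ hχ a ha b hb)
        α hαa β hβb
      rw [h0, if_neg]
      intro he
      have h1 := hself a (hC.mem χ hχ a ha) α hαa
      rw [← he, h1] at h0
      exact one_ne_zero h0
  · intro χ hχ α hα
    obtain ⟨a, ha, hαa⟩ := Finset.mem_biUnion.1 hα
    exact hR₁.virtual a (hC.mem χ hχ a ha) α hαa
  · intro χ hχ
    rw [Finset.sum_biUnion]
    · have h1 : χ - conjFun χ = ∑ φ ∈ C χ, (φ - conjFun φ) := by
        rw [Finset.sum_sub_distrib, ← conjFun_sum, ← hC.sum_eq χ hχ]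
      have hmem : ∀ φ ∈ C χ, φ - conjFun φ ∈ zspanOn (calI H) {1}ᶜ := fun φ hφ =>
        UniformDegree.sub_conj_mem hR₁ (hC.mem χ hχ φ hφ)
      rw [h1, CoherenceBasic.isomOn_sum hR₁.isometry (C χ) hmem]
      exact Finset.sum_congr rfl fun φ hφ => hR₁.sum_eq φ (hC.mem χ hχ φ hφ)
    · intro a ha b hb hab
      rw [Function.onFun, Finset.disjoint_left]
      intro α hα hβ
      have h0 := hdisj a (hC.mem χ hχ a ha) b (hC.mem χ hχ b hb) hab (hconj χ hχ a ha b hb)
        α hα α hβ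
      rw [hself a (hC.mem χ hχ a ha) α hα] at h0
      exact one_ne_zero h0
  · intro χ hχ φ hφ h1 h2 α hα β hβ
    obtain ⟨a, ha, hαa⟩ := Finset.mem_biUnion.1 hα
    obtain ⟨b, hb, hβb⟩ := Finset.mem_biUnion.1 hβ
    have hirrφ : ∀ ψ ∈ C φ, IsIrrCharacter ↥L ψ := fun ψ hψ => (hC.mem φ hφ ψ hψ).1
    have hirrχ : ∀ ψ ∈ C χ, IsIrrCharacter ↥L ψ := fun ψ hψ => (hC.mem χ hχ ψ hψ).1
    refine hdisj a (hC.mem φ hφ a ha) b (hC.mem χ hχ b hb) ?_ ?_ α hαa β hβb
    · refine ne_of_inner_eq_zero hirrφ hirrχ ?_ ha hb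
      rw [← hC.sum_eq φ hφ, ← hC.sum_eq χ hχ]
      exact h1
    · refine conj_ne_of_inner_eq_zero hirrφ hirrχ ?_ ha hb
      rw [← hC.sum_eq φ hφ, ← hC.sum_eq χ hχ]
      exact h2

end typeI

end Cfsg.Agent.OddOrderCharacters.TypeISystem
end

-- part: OddOrderCharacters/TypeIConstant
section
/-!
# Peterfalvi (12.4), (12.5): virtual characters orthogonal to the images of a Type I subgroup

`TypeIHyp A L H N R` as in `TypeISystem`.  `OrthI A L H R ψ`: the class function `ψ` of `G` is orthogonal to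
the irreducible characters `μ` with `(φ - φ̄)^τ = μ - μ̄`, `φ ∈ calI H` (equivalently, to all the
`R χ`).  Then `ψ^ρ` is constant on the cosets `x H`, `x ∈ L \ H` (12.4), and on `H \ H'` (12.5).
-/

set_option autoImplicit false
set_option linter.unusedSectionVars false

open scoped ComplexConjugate
open Cfsg
open Cfsg.Agent.Characters.Core
open Cfsg.Agent.OddOrderCharacters.VChar
open Cfsg.Agent.OddOrderCharacters.IndRes
open Cfsg.Agent.OddOrderCharacters.DadeBasic
open Cfsg.Agent.OddOrderCharacters.TypeIVanish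
open Cfsg.Agent.OddOrderCharacters.TypeISystem
open Cfsg.Agent.OddOrderCharacters.PFDefs

namespace Cfsg.Agent.OddOrderCharacters.TypeIConstant

universe u

/-- `ψ` is orthogonal to all the irreducible characters `μ` with `(φ - φ̄)^τ = μ - μ̄`, `φ` an
irreducible character of `L` whose kernel does not contain `H`. -/
def OrthI {G : Type u} [Group G] [Fintype G] (A : Set G) (L : Subgroup G) [Fintype ↥L]
    (H : Subgroup ↥L) (R : G → Subgroup G) (ψ : G → ℂ) : Prop :=
  ∀ φ ∈ calI H, ∀ μ : G → ℂ, IsIrrCharacter G μ →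
    dadeIsometry A L R (φ - conjFun φ) = μ - conjFun μ → classInner ψ μ = 0

section

variable {G : Type u} [Group G] [Fintype G] {A : Set G} {L : Subgroup G} [Fintype ↥L]
  {H N : Subgroup ↥L} {R : G → Subgroup G}

theorem exists_rel (h : TypeIHyp A L H N R) {φ : ↥L → ℂ} (hφ : φ ∈ calI H) :
    ∃ μ : G → ℂ, IsIrrCharacter G μ ∧ dadeIsometry A L R (φ - conjFun φ) = μ - conjFun μ :=
  S1518.result A L R h.dade φ hφ.1 (fun _ h1 hx => calI_vanish h hφ h1 hx)

theorem dade_conj_sub (h : TypeIHyp A L H N R) {φ : ↥L → ℂ} (hφ : φ ∈ calI H) {μ : G → ℂ}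
    (hμ : dadeIsometry A L R (φ - conjFun φ) = μ - conjFun μ) :
    dadeIsometry A L R (conjFun φ - conjFun (conjFun φ)) = conjFun μ - conjFun (conjFun μ) := by
  have h1 : conjFun φ - conjFun (conjFun φ) = (-1 : ℤ) • (φ - conjFun φ) := by
    rw [conjFun_conjFun]
    simp
  have h2 : IsClassFunction ↥L (φ - conjFun φ) :=
    gen_isClassFunction (gen_sub (gen_of_irr hφ.1) (gen_of_irr (isIrr_conjFun hφ.1)))
  rw [h1, dadeIsometry_zsmul h.dade h2, hμ, conjFun_conjFun]
  simp

/-- `OrthI` gives orthogonality to the sets `R₁ φ` of any coherence system on `calI H`. -/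
theorem orth_R₁ (h : TypeIHyp A L H N R) {R₁ : (↥L → ℂ) → Finset (G → ℂ)}
    (hR₁ : IsCoherenceSystem (calI H) (dadeIsometry A L R) R₁) {ψ : G → ℂ}
    (hψ : OrthI A L H R ψ) {φ : ↥L → ℂ} (hφ : φ ∈ calI H) {α : G → ℂ} (hα : α ∈ R₁ φ) :
    classInner ψ α = 0 := by
  classical
  obtain ⟨μ, hμ, hμe⟩ := exists_rel h hφ
  have h1 : classInner α α = 1 := by
    rw [hR₁.orthonormal φ hφ α hα α hα, if_pos rfl]
  have h2 : classInner (μ - conjFun μ) α = 1 := by
    rw [← hμe, hR₁.sum_eq φ hφ, classInner_sum_left, Finset.sum_eq_single α]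
    · exact h1
    · intro b hb hne
      rw [hR₁.orthonormal φ hφ b hb α hα, if_neg hne]
    · intro h'; exact absurd hα h'
  have hμ' := isIrr_conjFun hμ
  rw [classInner_sub_left] at h2
  rcases isIrr_of_generalized (hR₁.virtual φ hφ α hα) h1 with hirr | hirr
  · by_cases he : μ = α
    · rw [← he]; exact hψ φ hφ μ hμ hμe
    · exfalso
      rw [classInner_irr_ne hμ hirr he] at h2
      by_cases he' : conjFun μ = α
      · rw [he', h1] at h2; norm_num at h2
      · rw [classInner_irr_ne hμ' hirr he'] at h2; norm_num at h2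
  · have h3 : classInner μ α = -classInner μ (-α) := by rw [classInner_neg_right]; ring
    have h4 : classInner (conjFun μ) α = -classInner (conjFun μ) (-α) := by
      rw [classInner_neg_right]; ring
    rw [h3, h4] at h2
    by_cases he' : conjFun μ = -α
    · have h5 : classInner ψ (conjFun μ) = 0 :=
        hψ (conjFun φ) (conjFun_mem_calI hφ) (conjFun μ) hμ' (dade_conj_sub h hφ hμe)
      rw [he', classInner_neg_right] at h5
      exact neg_eq_zero.1 h5
    · exfalso
      rw [classInner_irr_ne hμ' hirr he'] at h2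
      by_cases he : μ = -α
      · rw [← he, classInner_irr_self hμ] at h2; norm_num at h2
      · rw [classInner_irr_ne hμ hirr he] at h2; norm_num at h2

/-- A function orthogonal to all the `R' χ` of a coherence system is orthogonal to the images of the
differences of two members of the same degree. -/
theorem inner_sub_eq_zero {S : Set (↥L → ℂ)} {τ : (↥L → ℂ) → (G → ℂ)}
    {R' : (↥L → ℂ) → Finset (G → ℂ)} (hS : IsCoherenceSystem S τ R') {ψ : G → ℂ}
    (hψ : ∀ χ ∈ S, ∀ α ∈ R' χ, classInner ψ α = 0) {χ χ' : ↥L → ℂ} (hχ : χ ∈ S) (hχ' : χ' ∈ S)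
    (hdeg : χ 1 = χ' 1) : classInner ψ (τ (χ - χ')) = 0 := by
  by_cases h1 : χ' = χ
  · rw [h1, sub_self, spanOn_zero hS.isometry, classInner_zero_right]
  by_cases h2 : χ' = conjFun χ
  · rw [h2, hS.sum_eq χ hχ, classInner_sum_right]
    exact Finset.sum_eq_zero fun α hα => hψ χ hχ α hα
  obtain ⟨a, b, -, -, -, he⟩ := UniformDegree.split hS hχ hχ' hdeg h1 h2
  rw [he, classInner_add_right, classInner_sum_right, classInner_sum_right]
  have h3 : ∀ (s : Finset (G → ℂ)) (c : (G → ℂ) → ℤ), (∀ e ∈ s, classInner ψ e = 0) →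
      ∑ e ∈ s, classInner ψ (c e • e) = 0 := by
    intro s c hs
    refine Finset.sum_eq_zero fun e he => ?_
    rw [classInner_zsmul_right, hs e he, mul_zero]
  rw [h3 _ a (fun e he => hψ χ hχ e he), h3 _ b (fun e he => hψ χ' hχ' e he), add_zero]

/-- `(ψ^ρ, φ)` for `φ ∈ calI H` depends only on the degree of `φ`. -/
theorem inner_rho_calI (h : TypeIHyp A L H N R) {ψ : G → ℂ} (hcl : IsClassFunction G ψ)
    (hψ : OrthI A L H R ψ) {φ φ' : ↥L → ℂ} (hφ : φ ∈ calI H) (hφ' : φ' ∈ calI H)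
    (hdeg : φ 1 = φ' 1) :
    classInner (rho A L R ψ) φ = classInner (rho A L R ψ) φ' := by
  obtain ⟨R₁, hR₁⟩ := exists_calI_system h
  have h1 := inner_sub_eq_zero hR₁ (fun χ hχ α hα => orth_R₁ h hR₁ hψ hχ hα) hφ hφ' hdeg
  have h2 : ∀ x : ↥L, (x : G) ∉ A → (φ - φ') x = 0 := by
    intro x hx
    by_cases hx1 : x = 1
    · rw [hx1, Pi.sub_apply, hdeg, sub_self]
    · rw [Pi.sub_apply, calI_vanish h hφ hx1 hx, calI_vanish h hφ' hx1 hx, sub_self]
  rw [PF7Rho.dade_reciprocity' h.dade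
    (gen_isClassFunction (gen_sub (gen_of_irr hφ.1) (gen_of_irr hφ'.1))) h2 hcl,
    classInner_sub_right] at h1
  exact sub_eq_zero.1 h1

/-- `(ψ^ρ, χ)` for `χ ∈ inducedIrrAbove H ⊥` depends only on the degree of `χ`. -/
theorem inner_rho_calS (h : TypeIHyp A L H N R) {ψ : G → ℂ} (hcl : IsClassFunction G ψ)
    (hψ : OrthI A L H R ψ) {χ χ' : ↥L → ℂ} (hχ : χ ∈ inducedIrrAbove H ⊥)
    (hχ' : χ' ∈ inducedIrrAbove H ⊥) (hdeg : χ 1 = χ' 1) :
    classInner (rho A L R ψ) χ = classInner (rho A L R ψ) χ' := by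
  classical
  obtain ⟨R₁, hR₁⟩ := exists_calI_system h
  obtain ⟨C, hC⟩ := exists_isConst h.typeF
  have hsys := calS_system h hR₁ hC
  have h1 := inner_sub_eq_zero hsys (fun χ hχ α hα => by
    obtain ⟨φ, hφ, hαφ⟩ := Finset.mem_biUnion.1 hα
    exact orth_R₁ h hR₁ hψ (hC.mem χ hχ φ hφ) hαφ) hχ hχ' hdeg
  have h2 : ∀ x : ↥L, (x : G) ∉ A → (χ - χ') x = 0 := by
    intro x hx
    by_cases hx1 : x = 1
    · rw [hx1, Pi.sub_apply, hdeg, sub_self]
    · have hxH : x ∉ H := fun hxH => hx (mem_A_of_mem_H h hxH hx1)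
      rw [Pi.sub_apply, vanish_off_H h.typeF.normal hχ hxH,
        vanish_off_H h.typeF.normal hχ' hxH, sub_self]
  rw [PF7Rho.dade_reciprocity' h.dade
    (gen_isClassFunction (gen_sub (gen_of_char (isCharacter_of_mem hχ))
      (gen_of_char (isCharacter_of_mem hχ')))) h2 hcl,
    classInner_sub_right] at h1
  exact sub_eq_zero.1 h1

end

/-! ### Class functions constant on cosets -/

section coset

variable {L : Type u} [Group L] [Fintype L] {H : Subgroup L}

theorem apply_mul_of_ker {χ : L → ℂ} (hχ : IsCharacter L χ) {k : L} (hk : χ k = χ 1) (x : L) :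
    χ (x * k) = χ x := by
  obtain ⟨n, ρ, rfl⟩ := hχ
  have h1 : ρ k = LinearMap.id := by
    rw [← Cfsg.Agent.Characters.Values.character_eq_finrank_iff, hk]
    simp
  have h2 : ρ (x * k) = ρ x := by
    rw [map_mul, h1]
    rfl
  change LinearMap.trace ℂ _ (ρ (x * k)) = LinearMap.trace ℂ _ (ρ x)
  rw [h2]

/-- Every `φ ∈ calI H` is a constituent of a character induced from a nonprincipal irreducible
character of `H`. -/
theorem exists_inner_ne_zero {φ : L → ℂ} (hφ : φ ∈ calI H) :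
    ∃ θ : ↥H → ℂ, IsIrrCharacter ↥H θ ∧ θ ≠ (fun _ => 1) ∧ classInner (indFun H θ) φ ≠ 0 := by
  classical
  by_contra hcon
  push Not at hcon
  have hcl : IsClassFunction L φ := isIrr_isClassFunction hφ.1
  have h1 : res H φ = (classInner (res H φ) (fun _ => 1)) • (fun _ => (1 : ℂ)) := by
    refine classFunction_ext (isClassFunction_res H hcl) ?_ ?_
    · intro a b; rfl
    · intro θ hθ
      rw [classInner_smul_left]
      by_cases hθ1 : θ = fun _ => 1
      · rw [hθ1]
        have : classInner (fun _ : ↥H => (1 : ℂ)) (fun _ => 1) = 1 :=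
          classInner_irr_self (χ := (1 : ↥H → ℂ)) isIrr_one
        rw [this, mul_one]
      · have h2 := hcon θ hθ hθ1
        rw [classInner_indFun_left H θ hcl] at h2
        have h3 : classInner (fun _ : ↥H => (1 : ℂ)) θ = 0 :=
          classInner_irr_ne (χ := (1 : ↥H → ℂ)) isIrr_one hθ (fun he => hθ1 he.symm)
        rw [classInner_comm_eq_zero h2, h3, mul_zero]
  obtain ⟨-, k, hk, hne⟩ := hφ
  apply hne
  have h2 := congrFun h1 ⟨k, hk⟩
  have h3 := congrFun h1 1
  rw [res_apply] at h2 h3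
  simp only [Pi.smul_apply] at h2 h3
  rw [h2]
  exact h3.symm

/-- A class function on `L` whose inner products with the members of `calI H` depend only on the
induced character they lie under is constant on the cosets of `H` outside `H`. -/
theorem const_on_coset (hH : H.Normal) {C : (L → ℂ) → Finset (L → ℂ)}
    (hCmem : ∀ χ ∈ inducedIrrAbove H ⊥, ∀ φ ∈ C χ, φ ∈ calI H)
    (hCsum : ∀ χ ∈ inducedIrrAbove H ⊥, χ = ∑ φ ∈ C χ, φ) {f : L → ℂ} (hf : IsClassFunction L f)
    (hconst : ∀ χ ∈ inducedIrrAbove H ⊥, ∀ φ ∈ C χ, ∀ φ' ∈ C χ,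
      classInner f φ = classInner f φ') {x k : L} (hx : x ∉ H) (hk : k ∈ H) :
    f (x * k) = f x := by
  classical
  have : Finite (IrrCharacter L) := finite_irr
  have : Fintype (IrrCharacter L) := Fintype.ofFinite _
  set T : Finset (L → ℂ) := Finset.univ.image (fun φ : IrrCharacter L => (φ : L → ℂ)) with hT
  have hTmem : ∀ φ, φ ∈ T ↔ IsIrrCharacter L φ := by
    intro φ
    rw [hT, Finset.mem_image]
    exact ⟨fun ⟨ψ, _, h⟩ => h ▸ ψ.2, fun h => ⟨⟨φ, h⟩, Finset.mem_univ _, rfl⟩⟩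
  have hexp : ∀ y, f y = ∑ φ ∈ T, classInner f φ * φ y := by
    intro y
    conv_lhs => rw [classFunction_eq_sum hf]
    rw [Finset.sum_apply, hT, Finset.sum_image (fun a _ b _ h => Subtype.ext h)]
    rfl
  have hfin : (inducedIrrAbove H ⊥ : Set (L → ℂ)).Finite := by
    refine finite_of_orthogonal ?_ ?_
    · rintro χ ⟨θ, hθ, -, -, rfl⟩ h0
      have h1 := congrFun h0 1
      rw [indFun_apply_one, Pi.zero_apply] at h1
      rcases mul_eq_zero.1 h1 with h2 | h2
      · exact Subgroup.index_ne_zero_of_finite (H := H) (by exact_mod_cast h2)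
      · exact isIrr_apply_one_ne_zero hθ h2
    · rintro χ ⟨θ, hθ, -, -, rfl⟩ φ ⟨η, hη, -, -, rfl⟩ hne
      rcases indFun_eq_or_classInner_eq_zero H hθ hη with h | h
      · exact absurd h hne
      · exact h
  have horth : ∀ χ ∈ inducedIrrAbove H ⊥, ∀ χ' ∈ inducedIrrAbove H ⊥, χ ≠ χ' →
      classInner χ χ' = 0 := by
    rintro χ ⟨θ, hθ, -, -, rfl⟩ φ ⟨η, hη, -, -, rfl⟩ hne
    rcases indFun_eq_or_classInner_eq_zero H hθ hη with h | h
    · exact absurd h hne
    · exact h
  -- the part of the expansion over `calI H` vanishes off `H`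
  have hpart : ∀ y : L, y ∉ H → ∑ φ ∈ T.filter (· ∈ calI H), classInner f φ * φ y = 0 := by
    intro y hy
    have hU : T.filter (· ∈ calI H) = hfin.toFinset.biUnion C := by
      ext φ
      rw [Finset.mem_filter, Finset.mem_biUnion]
      constructor
      · rintro ⟨-, hφ⟩
        obtain ⟨θ, hθ, hθ1, hne⟩ := exists_inner_ne_zero hφ
        have hχ : indFun H θ ∈ inducedIrrAbove H ⊥ :=
          ⟨θ, hθ, hθ1, fun a ha => by
            rw [Subgroup.mem_bot] at ha
            congr 1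
            exact Subtype.ext ha, rfl⟩
        refine ⟨indFun H θ, hfin.mem_toFinset.2 hχ, ?_⟩
        by_contra hcon
        apply hne
        rw [hCsum _ hχ, classInner_sum_left]
        refine Finset.sum_eq_zero fun b hb => ?_
        exact classInner_irr_ne (hCmem _ hχ b hb).1 hφ.1 (fun he => hcon (he ▸ hb))
      · rintro ⟨χ, hχ, hφ⟩
        rw [hfin.mem_toFinset] at hχ
        exact ⟨(hTmem φ).2 (hCmem χ hχ φ hφ).1, hCmem χ hχ φ hφ⟩
    rw [hU, Finset.sum_biUnion]
    · refine Finset.sum_eq_zero fun χ hχ => ?_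
      rw [hfin.mem_toFinset] at hχ
      rcases (C χ).eq_empty_or_nonempty with he | ⟨φ₀, hφ₀⟩
      · rw [he, Finset.sum_empty]
      · rw [Finset.sum_congr rfl (fun φ hφ => by rw [hconst χ hχ φ hφ φ₀ hφ₀]),
          ← Finset.mul_sum, ← Finset.sum_apply, ← hCsum χ hχ]
        obtain ⟨θ, -, -, -, rfl⟩ := hχ
        rw [NormalInduced.indFun_of_notMem H θ hy, mul_zero]
    · intro χ hχ χ' hχ' hne
      rw [Finset.mem_coe, hfin.mem_toFinset] at hχ hχ'
      rw [Function.onFun, Finset.disjoint_left]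
      intro φ hφ hφ'
      refine ne_of_inner_eq_zero (C := C χ) (D := C χ') (fun ψ hψ => (hCmem χ hχ ψ hψ).1)
        (fun ψ hψ => (hCmem χ' hχ' ψ hψ).1) ?_ hφ hφ' rfl
      rw [← hCsum χ hχ, ← hCsum χ' hχ']
      exact horth χ hχ χ' hχ' hne
  have hxk : x * k ∉ H := fun h' => hx ((Subgroup.mul_mem_cancel_right H hk).1 h')
  rw [hexp, hexp, ← Finset.sum_filter_add_sum_filter_not T (· ∈ calI H), hpart _ hxk,
    ← Finset.sum_filter_add_sum_filter_not T (· ∈ calI H) (fun φ => classInner f φ * φ x),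
    hpart _ hx]
  congr 1
  refine Finset.sum_congr rfl fun φ hφ => ?_
  rw [Finset.mem_filter, hTmem] at hφ
  have hkk : φ k = φ 1 := by
    by_contra hne
    exact hφ.2 ⟨hφ.1, k, hk, hne⟩
  rw [apply_mul_of_ker (isIrr_isCharacter hφ.1) hkk]

/-- A class function `f` on `H` whose inner products with nonprincipal irreducible characters depend
only on the degree is constant on `H \ H'`; the value is `(f, 1) - (f, λ)` for any nonprincipal
linear character `λ`. -/
theorem const_off_commutator {H : Type u} [Group H] [Fintype H] {f : H → ℂ}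
    (hf : IsClassFunction H f)
    (hdeg : ∀ θ θ' : H → ℂ, IsIrrCharacter H θ → IsIrrCharacter H θ' → θ ≠ (fun _ => 1) →
      θ' ≠ (fun _ => 1) → θ 1 = θ' 1 → classInner f θ = classInner f θ')
    (l : H →* ℂˣ) (hl : l ≠ 1) {x : H} (hx : x ∉ commutator H) :
    f x = classInner f (fun _ => 1) - classInner f (fun y => (l y : ℂ)) := by
  classical
  have : Finite (IrrCharacter H) := finite_irr
  have : Fintype (IrrCharacter H) := Fintype.ofFinite _
  -- a linear character nontrivial at `x`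
  obtain ⟨m, hm⟩ : ∃ m : H →* ℂˣ, m x ≠ 1 := by
    have h1 : (Abelianization.of x : Abelianization H) ≠ 1 := by
      intro h1
      apply hx
      exact (QuotientGroup.eq_one_iff x).1 h1
    obtain ⟨φ, hφ⟩ := CommGroup.exists_apply_ne_one_of_hasEnoughRootsOfUnity
      (Abelianization H) ℂ h1
    exact ⟨φ.comp Abelianization.of, hφ⟩
  have hlin : ∀ m : H →* ℂˣ, m ≠ 1 → (fun y => (m y : ℂ)) ≠ fun _ => 1 := by
    intro m hm0 he
    apply hm0
    ext y
    exact congrFun he y
  have hlirr := Cfsg.Agent.Characters.Linear.isIrrCharacter_hom l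
  set c : ℂ := classInner f (fun y => (l y : ℂ)) with hc
  let g : (H → ℂ) → ℂ := fun θ => if θ = (fun _ => 1) then c else classInner f θ
  have hg : ∀ θ θ' : H → ℂ, IsIrrCharacter H θ → IsIrrCharacter H θ' → θ 1 = θ' 1 →
      g θ = g θ' := by
    have key : ∀ θ : H → ℂ, IsIrrCharacter H θ → θ ≠ (fun _ => 1) → θ 1 = 1 →
        classInner f θ = c := by
      intro θ hθ h1 h2
      refine hdeg θ _ hθ hlirr h1 (hlin l hl) ?_
      rw [h2]; simp
    intro θ θ' hθ hθ' h1
    by_cases h2 : θ = fun _ => 1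
    · by_cases h3 : θ' = fun _ => 1
      · rw [h2, h3]
      · simp only [g, if_pos h2, if_neg h3]
        exact (key θ' hθ' h3 (by rw [← h1, h2])).symm
    · by_cases h3 : θ' = fun _ => 1
      · simp only [g, if_neg h2, if_pos h3]
        exact key θ hθ h2 (by rw [h1, h3])
      · simp only [g, if_neg h2, if_neg h3]
        exact hdeg θ θ' hθ hθ' h2 h3 h1
  -- multiplication by `m` permutes the irreducible characters
  let mul : (H →* ℂˣ) → IrrCharacter H → IrrCharacter H := fun m θ =>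
    ⟨fun t => (m t : ℂ) * (θ : H → ℂ) t, InertiaAbelian.isIrr_mul_hom m θ.2⟩
  let e : IrrCharacter H ≃ IrrCharacter H :=
    { toFun := mul m
      invFun := mul m⁻¹
      left_inv := by
        intro θ
        apply Subtype.ext
        funext t
        simp [mul]
      right_inv := by
        intro θ
        apply Subtype.ext
        funext t
        simp [mul] }
  have hS : ∑ θ : IrrCharacter H, g θ * (θ : H → ℂ) x = 0 := by
    have h1 : ∑ θ : IrrCharacter H, g θ * (θ : H → ℂ) x =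
        (m x : ℂ) * ∑ θ : IrrCharacter H, g θ * (θ : H → ℂ) x := by
      conv_lhs => rw [← Equiv.sum_comp e]
      rw [Finset.mul_sum]
      refine Finset.sum_congr rfl fun θ _ => ?_
      have h2 : g (e θ : H → ℂ) = g θ := by
        refine hg _ _ (e θ).2 θ.2 ?_
        change (m 1 : ℂ) * (θ : H → ℂ) 1 = (θ : H → ℂ) 1
        simp
      rw [h2]
      change g θ * ((m x : ℂ) * (θ : H → ℂ) x) = (m x : ℂ) * (g θ * (θ : H → ℂ) x)
      ring
    have h2 : ((m x : ℂ) - 1) * ∑ θ : IrrCharacter H, g θ * (θ : H → ℂ) x = 0 := by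
      rw [sub_mul, ← h1, one_mul, sub_self]
    rcases mul_eq_zero.1 h2 with h3 | h3
    · exact absurd (Units.ext (by simpa using sub_eq_zero.1 h3)) hm
    · exact h3
  have hexp : f x = ∑ θ : IrrCharacter H, classInner f (θ : H → ℂ) * (θ : H → ℂ) x := by
    conv_lhs => rw [classFunction_eq_sum hf]
    rw [Finset.sum_apply]
    rfl
  have h1 : f x = ∑ θ : IrrCharacter H, (classInner f (θ : H → ℂ) - g θ) * (θ : H → ℂ) x := by
    rw [hexp]
    simp only [sub_mul, Finset.sum_sub_distrib]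
    rw [hS, sub_zero]
  rw [h1, Finset.sum_eq_single ⟨fun _ => 1, isIrr_one⟩]
  · simp [g]
  · intro θ _ hne
    have h2 : (θ : H → ℂ) ≠ fun _ => 1 := fun he => hne (Subtype.ext he)
    simp [g, h2]
  · intro h'
    exact absurd (Finset.mem_univ _) h'

end coset

/-! ### Peterfalvi (12.4) and (12.5) -/

section main

variable {G : Type u} [Group G] [Fintype G] {A : Set G} {L : Subgroup G} [Fintype ↥L]
  {H N : Subgroup ↥L} {R : G → Subgroup G}

/-- (12.4), in terms of `ψ^ρ`. -/
theorem rho_coset (h : TypeIHyp A L H N R) {ψ : G → ℂ} (hcl : IsClassFunction G ψ)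
    (hψ : OrthI A L H R ψ) {x k : ↥L} (hx : x ∉ H) (hk : k ∈ H) :
    rho A L R ψ (x * k) = rho A L R ψ x := by
  obtain ⟨C, hC⟩ := exists_isConst h.typeF
  exact const_on_coset h.typeF.normal hC.mem hC.sum_eq (PF7Rho.rho_isClassFunction h.dade hcl)
    (fun χ hχ φ hφ φ' hφ' => inner_rho_calI h hcl hψ (hC.mem χ hχ φ hφ) (hC.mem χ hχ φ' hφ')
      (hC.degree χ hχ φ hφ φ' hφ')) hx hk

/-- `A \ H` is a union of cosets of `H`. -/
theorem mul_mem_A (h : TypeIHyp A L H N R) {x k : ↥L} (hx : x ∉ H) (hk : k ∈ H)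
    (hxA : (x : G) ∈ A) : ((x * k : ↥L) : G) ∈ A := by
  have := h.typeF.normal
  have hxk : x * k ∉ H := fun h' => hx ((Subgroup.mul_mem_cancel_right H hk).1 h')
  by_contra hcon
  have hfpf : ∀ j ∈ H, x * k * j = j * (x * k) → j = 1 := by
    intro j hj hc
    by_contra hne
    refine hcon ((h.mem_A _).2 ⟨fun h1 => hxk (h1 ▸ H.one_mem), j, hj, hne, hc⟩)
  obtain ⟨j, hj, hje⟩ := exists_conj_of_fpf H hfpf (H.inv_mem hk)
  have hje' : j * (x * k) * j⁻¹ = x := by rw [hje]; group
  obtain ⟨-, i, hi, hi1, hic⟩ := (h.mem_A x).1 hxA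
  apply hi1
  have h2 : j⁻¹ * i * j = 1 := by
    apply hfpf _ (by
      have := this.conj_mem i hi j⁻¹
      rwa [inv_inv] at this)
    have h3 : x * k = j⁻¹ * x * j := by
      have h5 := congrArg (fun z => j⁻¹ * z * j) hje'
      simpa [mul_assoc] using h5
    rw [h3]
    calc j⁻¹ * x * j * (j⁻¹ * i * j) = j⁻¹ * (x * i) * j := by group
      _ = j⁻¹ * (i * x) * j := by rw [hic]
      _ = j⁻¹ * i * j * (j⁻¹ * x * j) := by group
  have h4 : i = j * (j⁻¹ * i * j) * j⁻¹ := by group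
  rw [h4, h2]; group

/-- Peterfalvi (12.4): a class function of `G` orthogonal to all the `R χ` is constant on the cosets
`x H`, `x ∈ L \ H`. -/
theorem ortho_constant (h : TypeIHyp A L H N R)
    (hR : ∀ x : ↥L, (x : G) ∈ A → x ∉ H → R (x : G) = ⊥) {ψ : G → ℂ}
    (hcl : IsClassFunction G ψ) (hψ : OrthI A L H R ψ) {x k : ↥L} (hx : x ∉ H) (hk : k ∈ H) :
    ψ ((x : G) * k) = ψ x := by
  have := h.typeF.normal
  have hxk : x * k ∉ H := fun h' => hx ((Subgroup.mul_mem_cancel_right H hk).1 h')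
  have hval : ∀ y : ↥L, (y : G) ∈ A → y ∉ H → rho A L R ψ y = ψ y := by
    intro y hy hyH
    refine PF7Rho.rho_of_const ψ hy _ ?_
    intro u hu
    rw [hR y hy hyH, Subgroup.mem_bot] at hu
    rw [hu, mul_one]
  by_cases hxA : (x : G) ∈ A
  · have h1 := rho_coset h hcl hψ hx hk
    rw [hval x hxA hx, hval (x * k) (mul_mem_A h hx hk hxA) hxk] at h1
    exact h1
  · have hfpf : ∀ j ∈ H, x * j = j * x → j = 1 := by
      intro j hj hc
      by_contra hne
      exact hxA ((h.mem_A _).2 ⟨fun h1 => hx (h1 ▸ H.one_mem), j, hj, hne, hc⟩)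
    obtain ⟨j, hj, hje⟩ := exists_conj_of_fpf H hfpf hk
    have h1 : (j : G) * x * (j : G)⁻¹ = (x : G) * k := by
      have := congrArg Subtype.val hje
      simpa using this
    rw [← h1]
    exact hcl x j

/-- Peterfalvi (12.5): `ψ^ρ` is constant on `H \ H'`. -/
theorem rho_eq_of_notMem_commutator (h : TypeIHyp A L H N R) {ψ : G → ℂ}
    (hcl : IsClassFunction G ψ) (hψ : OrthI A L H R ψ) (l : ↥H →* ℂˣ) (hl : l ≠ 1) {x : ↥H}
    (hx : x ∉ commutator ↥H) :
    rho A L R ψ (x : ↥L) = classInner ψ (dadeIsometry A L R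
      (indFun H (fun _ => 1) - indFun H (fun y => (l y : ℂ)))) := by
  classical
  have : Fintype ↥H := Fintype.ofFinite _
  have hHn := h.typeF.normal
  have hfcl := PF7Rho.rho_isClassFunction h.dade hcl
  have hlirr := Cfsg.Agent.Characters.Linear.isIrrCharacter_hom l
  have key := const_off_commutator (f := res H (rho A L R ψ)) (isClassFunction_res H hfcl) ?_ l hl
    hx
  · rw [res_apply] at key
    rw [key]
    have h2 : ∀ y : ↥L, (y : G) ∉ A →
        (indFun H (fun _ => 1) - indFun H (fun y => (l y : ℂ))) y = 0 := by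
      intro y hy
      by_cases hy1 : y = 1
      · rw [hy1, Pi.sub_apply, indFun_apply_one, indFun_apply_one]
        simp
      · have hyH : y ∉ H := fun hyH => hy (mem_A_of_mem_H h hyH hy1)
        rw [Pi.sub_apply, NormalInduced.indFun_of_notMem H _ hyH,
          NormalInduced.indFun_of_notMem H _ hyH, sub_zero]
    have h3 : IsClassFunction ↥L (indFun H (fun _ => 1) - indFun H (fun y => (l y : ℂ))) := by
      intro a b
      rw [Pi.sub_apply, Pi.sub_apply, isClassFunction_indFun H _ a b,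
        isClassFunction_indFun H _ a b]
    rw [PF7Rho.dade_reciprocity' h.dade h3 h2 hcl, classInner_sub_right,
      classInner_indFun_right H _ hfcl, classInner_indFun_right H _ hfcl]
  · intro θ θ' hθ hθ' h1 h1' hd
    have hm : ∀ η : ↥H → ℂ, IsIrrCharacter ↥H η → η ≠ (fun _ => 1) →
        indFun H η ∈ inducedIrrAbove H ⊥ := by
      intro η hη hη1
      refine ⟨η, hη, hη1, fun a ha => ?_, rfl⟩
      rw [Subgroup.mem_bot] at ha
      congr 1
      exact Subtype.ext ha
    have h4 := inner_rho_calS h hcl hψ (hm θ hθ h1) (hm θ' hθ' h1') (by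
      rw [indFun_apply_one, indFun_apply_one, hd])
    rwa [classInner_indFun_right H _ hfcl, classInner_indFun_right H _ hfcl] at h4

/-- Peterfalvi (12.5): `ψ^ρ` is constant on `H \ H'`, and the value is a rational integer when `ψ` is
a generalized character. -/
theorem exists_rho_eq (h : TypeIHyp A L H N R) {ψ : G → ℂ} (hgen : IsGeneralizedCharacter G ψ)
    (hψ : OrthI A L H R ψ) :
    ∃ b : ℤ, ∀ x : ↥H, x ∉ commutator ↥H → rho A L R ψ (x : ↥L) = b := by
  classical
  have hHn := h.typeF.normal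
  by_cases hex : ∃ x : ↥H, x ∉ commutator ↥H
  · obtain ⟨x, hx⟩ := hex
    obtain ⟨l, hl⟩ : ∃ m : ↥H →* ℂˣ, m ≠ 1 := by
      have h1 : (Abelianization.of x : Abelianization ↥H) ≠ 1 := by
        intro h1
        apply hx
        exact (QuotientGroup.eq_one_iff x).1 h1
      obtain ⟨φ, hφ⟩ := CommGroup.exists_apply_ne_one_of_hasEnoughRootsOfUnity
        (Abelianization ↥H) ℂ h1
      refine ⟨φ.comp Abelianization.of, fun he => hφ ?_⟩
      have := DFunLike.congr_fun he x
      simpa using this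
    have hgen2 : IsGeneralizedCharacter G (dadeIsometry A L R
        (indFun H (fun _ => 1) - indFun H (fun y => (l y : ℂ)))) := by
      refine S1501.result A L R h.dade _ (gen_sub ?_ ?_) ?_
      · exact isGeneralizedCharacter_indFun H (gen_of_irr (isIrr_one (G := ↥H)))
      · exact isGeneralizedCharacter_indFun H
          (gen_of_irr (Cfsg.Agent.Characters.Linear.isIrrCharacter_hom l))
      · intro y hy
        by_cases hy1 : y = 1
        · rw [hy1, Pi.sub_apply, indFun_apply_one, indFun_apply_one]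
          simp
        · have hyH : y ∉ H := fun hyH => hy (mem_A_of_mem_H h hyH hy1)
          rw [Pi.sub_apply, NormalInduced.indFun_of_notMem H _ hyH,
            NormalInduced.indFun_of_notMem H _ hyH, sub_zero]
    obtain ⟨b, hb⟩ := gen_inner hgen hgen2
    exact ⟨b, fun y hy => by
      rw [rho_eq_of_notMem_commutator h (gen_isClassFunction hgen) hψ l hl hy, hb]⟩
  · push Not at hex
    exact ⟨0, fun x hx => absurd (hex x) hx⟩

end main

end Cfsg.Agent.OddOrderCharacters.TypeIConstant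
end

-- part: OddOrderCharacters/PF12/Assembly
section
/-!
# Peterfalvi (12.13)–(12.16): the contradiction from the configuration (12.9)
-/

set_option autoImplicit false

open scoped ComplexConjugate
open Cfsg Cfsg.Agent.OddOrderCharacters
open Cfsg.Agent.OddOrderCharacters.PFDefs Cfsg.Agent.OddOrderCharacters.PF12.Defs
  Cfsg.Agent.OddOrderCharacters.PF12.PivotDef
open Cfsg.Agent.OddOrderCharacters.PF7IndBasic Cfsg.Agent.OddOrderCharacters.PF7Ind
open Cfsg.Agent.OddOrderCharacters.TypeIConstant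

namespace Cfsg.Agent.OddOrderCharacters.PF12.Assembly

universe u

variable {G : Type u} [Group G]

/-- Restriction of the Dade hypothesis to a smaller normal subset. -/
theorem dade_restrict {A B : Set G} {L : Subgroup G} {R : G → Subgroup G}
    (hD : DadeHypothesis A L R) (hB : B ⊆ A) (hn : ∀ x ∈ L, ∀ b ∈ B, x * b * x⁻¹ ∈ B) :
    DadeHypothesis B L R where
  one_not_mem := fun h => hD.one_not_mem (hB h)
  subset := hB.trans hD.subset
  conj_mem := hn
  fusion := fun a ha g hg => hD.fusion a (hB ha) g (hB hg)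
  le_centralizer := fun a ha => hD.le_centralizer a (hB ha)
  conj_mem_H := fun a ha => hD.conj_mem_H a (hB ha)
  inf_eq_bot := fun a ha => hD.inf_eq_bot a (hB ha)
  sup_eq := fun a ha => hD.sup_eq a (hB ha)
  coprime := fun a ha b hb => hD.coprime a (hB ha) b (hB hb)

theorem sharp_subset {M : Subgroup G} {N : Subgroup ↥M} {A : Set G} {R : G → Subgroup G}
    (hM : TypeISystem.TypeIHyp A M (fittingHall ↥M) N R) : sharp (fittingHallOf M) ⊆ A := by
  rintro a ⟨⟨b, hb, rfl⟩, ha1⟩
  have hb1 : b ≠ 1 := fun h => ha1 (by rw [h]; rfl)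
  exact (hM.mem_A b).2 ⟨hb1, b, hb, hb1, rfl⟩

theorem dade_sharp {M : Subgroup G} {N : Subgroup ↥M} {A : Set G} {R : G → Subgroup G}
    (hM : TypeISystem.TypeIHyp A M (fittingHall ↥M) N R) :
    DadeHypothesis (sharp (fittingHallOf M)) M R := by
  refine dade_restrict hM.dade (sharp_subset hM) ?_
  rintro x hx b ⟨hb, hb1⟩
  refine ⟨TypeSetsBasic.fittingHallOf_conj_mem hx hb, fun h => hb1 ?_⟩
  exact (conj_eq_one_iff (a := x)).1 h

/-- `rho` at an element common to two sets does not depend on the set. -/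
theorem rho_congr_set {A B : Set G} {L : Subgroup G} {R : G → Subgroup G} (ψ : G → ℂ) {a : ↥L}
    (ha : (a : G) ∈ A) (hb : (a : G) ∈ B) : rho A L R ψ a = rho B L R ψ a := by
  rw [PF7Rho.rho_mem ψ ha, PF7Rho.rho_mem ψ hb]

theorem notMem_commutator {M : Subgroup G} {k : ↥M} (hk : k ∈ fittingHall ↥M)
    (hk' : (k : G) ∉ ⁅fittingHallOf M, fittingHallOf M⁆) :
    (⟨k, hk⟩ : ↥(fittingHall ↥M)) ∉ commutator ↥(fittingHall ↥M) := by
  intro h
  apply hk'
  have h1 : (commutator ↥(fittingHall ↥M)).map (M.subtype.comp (fittingHall ↥M).subtype) =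
      ⁅fittingHallOf M, fittingHallOf M⁆ := by
    have h2 : (⊤ : Subgroup ↥(fittingHall ↥M)).map (M.subtype.comp (fittingHall ↥M).subtype) =
        fittingHallOf M := by
      rw [← Subgroup.map_map, ← MonoidHom.range_eq_map, Subgroup.range_subtype]
      rfl
    rw [_root_.commutator_def, Subgroup.map_commutator, h2]
  rw [← h1]
  exact ⟨_, h, rfl⟩

/-- The contradiction from the configuration (12.9), when `L` is a Frobenius group. -/
theorem false_of_config [Fintype G] {p : ℕ} {M P L : Subgroup G} {x : G} [Fintype ↥M]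
    [Fintype ↥L] (h : Pivot M P L p x) (hpK : ¬ p ∣ Nat.card (fittingHallOf M))
    (hodd : Odd (Nat.card G)) {N : Subgroup ↥M}
    (hM : TypeISystem.TypeIHyp (typeA0' M) M (fittingHall ↥M) N (supportR M))
    (hMR : ∀ a : ↥M, (a : G) ∈ typeA0' M → a ∉ fittingHall ↥M → supportR M (a : G) = ⊥)
    {ν : (↥L → ℂ) → (G → ℂ)} {ζ : ↥L → ℂ} (hC : CohHyp L (fittingHallOf L) (supportR L) ν ζ)
    (hζ : conjFun ζ ≠ ζ)
    (horth : OrthI (typeA0' M) M (fittingHall ↥M) (supportR M) (ν ζ))
    (hdisj : Disjoint (dadeSupport (sharp (fittingHallOf L)) (supportR L))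
      (dadeSupport (sharp (fittingHallOf M)) (supportR M)))
    (hxH : x ∈ fittingHallOf L)
    (hRx : supportR L x ≤ fittingHallOf M)
    (he : 3 ≤ (fittingHallOf L).relIndex L) (hep : 2 * (fittingHallOf L).relIndex L ≤ p + 1)
    (hh : p ^ 2 ≤ Nat.card (fittingHallOf L))
    (hidx : 5 ≤ (⁅fittingHallOf M, fittingHallOf M⁆).relIndex (fittingHallOf M))
    (hcard : Nat.card M ≤ Nat.card (fittingHallOf M) * Nat.card (fittingHallOf L)) : False := by
  have hKM : fittingHallOf M ≤ M := TypeSetsBasic.fittingHallOf_le M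
  have hζgen : IsGeneralizedCharacter G (ν ζ) := nu_gen hC hC.mem
  have hcl : IsClassFunction G (ν ζ) := VChar.gen_isClassFunction hζgen
  have hxM : x ∈ M := h.P_le h.x_mem
  obtain ⟨y, hyK, hyK', hxy⟩ := h.x_cent
  -- `x ∉ K`
  have hxK : x ∉ fittingHallOf M := by
    intro hx
    refine hpK ?_
    have h1 := Subgroup.orderOf_dvd_natCard (fittingHallOf M) hx
    rwa [h.x_order] at h1
  have hxK' : (⟨x, hxM⟩ : ↥M) ∉ fittingHall ↥M := fun h' => hxK (mem_fittingHallOf.2 h')
  have hshift : ∀ k ∈ fittingHallOf M, ν ζ (x * k) = ν ζ x := by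
    intro k hk
    exact ortho_constant hM hMR hcl horth (x := ⟨x, hxM⟩) (k := ⟨k, hKM hk⟩) hxK'
      (mem_fittingHallOf.1 hk)
  obtain ⟨b, hb⟩ := exists_rho_eq hM hζgen horth
  have hyM : y ∈ M := hKM hyK
  have hy1 : y ≠ 1 := by
    rintro rfl
    exact hyK' (Subgroup.one_mem _)
  have hD := dade_sharp hM
  refine Final.contradiction hC hζ (M := M) (K := fittingHallOf M) (R' := supportR M) hKM hD hdisj
    h.prime ?_ h.x_order hxH (fun u hu => hshift u (hRx hu)) hyK hyK' hxy
    (hshift y hyK) ?_ b ?_ he hep hh hidx hcard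
  · rcases h.prime.eq_two_or_odd' with h2 | h2
    · exfalso
      have h3 : p ∣ Nat.card G := by
        have := orderOf_dvd_natCard x
        rwa [h.x_order] at this
      rw [h2] at h3
      exact (Nat.not_even_iff_odd.2 hodd) (even_iff_two_dvd.2 h3)
    · have := h.prime.two_le
      rcases h2 with ⟨k, hk⟩
      omega
  · intro u hu hxu
    have h1 : u ∈ M := by
      refine h.cent_le ?_
      rw [Subgroup.mem_centralizer_singleton_iff]
      exact hxu.symm
    have h2 : u ∈ supportR M y ⊓ (M ⊓ Subgroup.centralizer ({y} : Set G)) :=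
      ⟨hu, h1, hD.le_centralizer y ⟨hyK, hy1⟩ hu⟩
    rw [hD.inf_eq_bot y ⟨hyK, hy1⟩] at h2
    exact h2
  · intro k hk hk'
    have hk1 : k ≠ 1 := by
      rintro rfl
      exact hk' (Subgroup.one_mem _)
    have hk2 : k ∈ sharp (fittingHallOf M) := ⟨hk, hk1⟩
    rw [rho_congr_set (A := sharp (fittingHallOf M)) (B := typeA0' M) (ν ζ) hk2
      (sharp_subset hM hk2)]
    exact hb ⟨⟨k, hKM hk⟩, mem_fittingHallOf.1 hk⟩ (notMem_commutator _ hk')

end Cfsg.Agent.OddOrderCharacters.PF12.Assembly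
end
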